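import Cfsg.Agent.Lib.Bender.CharMA
import Cfsg.Agent.Lib.Char.Burnside
import Cfsg.Agent.Lib.BSW.Local

/-!
# A simple permutation group with a regular abelian subgroup that is the centralizer of each of its
nontrivial elements
-/

set_option autoImplicit false

namespace Cfsg.Lib.Ito
open Subgroup MulAction Cfsg.Lib Cfsg.Lib.FT Cfsg.Lib.Bender
open scoped ComplexConjugate Classical

variable {G X : Type*} [Group G] [Fintype G] [MulAction G X] [Fintype X] {K : Subgroup G}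

/-- all nonprincipal constituents of the permutation character have the same degree -/
theorem deg_eq_of_regSC (hK : BSW.SC K) (hreg : ∀ x y : X, ∃! k : K, (k : G) • x = y) (x₀ : X)
    {ψ₁ ψ₂ : G → ℂ} (i₁ : IsIrrCharacter G ψ₁) (i₂ : IsIrrCharacter G ψ₂)
    (c₁ : classInner (pch X : G → ℂ) ψ₁ ≠ 0) (c₂ : classInner (pch X : G → ℂ) ψ₂ ≠ 0)
    (n₁ : ψ₁ ≠ 1) (n₂ : ψ₂ ≠ 1) : ψ₁ 1 = ψ₂ 1 := by
  by_cases hne : ψ₁ = ψ₂
  · rw [hne]
  obtain ⟨L, hL⟩ : ∃ L : Subgroup G, L = normalizer (K : Set G) := ⟨_, rfl⟩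
  have hKL : K ≤ L := hL ▸ le_normalizer
  obtain ⟨H, hH⟩ : ∃ H : Subgroup L, H = K.subgroupOf L := ⟨_, rfl⟩
  have mH : ∀ x : L, x ∈ H ↔ (x : G) ∈ K := fun x => by rw [hH, mem_subgroupOf]
  haveI : H.Normal := by
    rw [hH]; exact (normal_subgroupOf_iff_le_normalizer hKL).2 hL.le
  have hcomm : ∀ a b : H, a * b = b * a := fun a b =>
    Subtype.ext (Subtype.ext (hK.comm ((mH _).1 a.2) ((mH _).1 b.2)))
  have hC : ∀ h ∈ H, h ≠ 1 → ∀ g : L, g * h = h * g → g ∈ H := fun h hh h1 g e =>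
    (mH _).2 (hK.mem_of_comm ((mH _).1 hh) (fun e => h1 (Subtype.ext e)) (congrArg Subtype.val e))
  have hreg' : ∀ x y : X, ∃! k : H, (k : L) • x = y := by
    intro x y
    obtain ⟨k, hk, hu⟩ := hreg x y
    refine ⟨⟨⟨k, hKL k.2⟩, (mH _).2 k.2⟩, hk, fun l hl => ?_⟩
    have := hu ⟨l, (mH _).1 l.2⟩ hl
    exact Subtype.ext (Subtype.ext (congrArg Subtype.val this :))
  have isom : ∀ α β : L → ℂ, IsClassFunction L β → (∀ x, x ∉ H → α x = 0) →
      (∀ x, x ∉ H → β x = 0) → α 1 = 0 →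
      classInner (indFun L α) (indFun L β) = classInner α β := by
    intro α β hβ a0 b0 a1
    refine classInner_indFun_indFun L α β fun a ha => indFun_eq_of_ti L hβ a fun x hx hne => ?_
    have h1 : a ∈ H := by by_contra hc; exact ha (a0 a hc)
    have h2 : (⟨_, hx⟩ : L) ∈ H := by by_contra hc; exact hne (b0 _ hc)
    have h3 := hK.mem_normalizer (g := x⁻¹) ((mH _).1 h1) (fun e => ha (by
      rw [show a = 1 from Subtype.ext e, a1])) (by simpa using (mH _).1 h2)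
    rw [hL]; simpa using inv_mem h3
  obtain ⟨ν₁, hν₁, u₁⟩ := exists_under (i₁.isCharacter.res L) i₁.one_ne_zero H
  obtain ⟨ν₂, hν₂, u₂⟩ := exists_under (i₂.isCharacter.res L) i₂.one_ne_zero H
  have e₁ := exists_under_ne_one hcomm hreg' x₀ i₁ c₁ n₁ u₁
  have e₂ := exists_under_ne_one hcomm hreg' x₀ i₂ c₂ n₂ u₂
  have z₁ : classInner (fun k : H => ψ₁ ((k : L) : G)) ν₂ = 0 := by
    by_contra hc
    exact hne (over_uniq hcomm hreg' x₀ hν₂ i₁ i₂ c₁ c₂ hc u₂)
  have z₂ : classInner (fun k : H => ψ₂ ((k : L) : G)) ν₁ = 0 := by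
    by_contra hc
    exact hne (over_uniq hcomm hreg' x₀ hν₁ i₁ i₂ c₁ c₂ u₁ hc)
  have f₁ := irr_ind_of_frobenius H hC hν₁ e₁
  have f₂ := irr_ind_of_frobenius H hC hν₂ e₂
  obtain ⟨a, ha⟩ := ((i₁.isCharacter.res L).res H).inner_nat hν₁.isCharacter
  obtain ⟨b, hb⟩ := ((i₂.isCharacter.res L).res H).inner_nat hν₂.isCharacter
  obtain ⟨c, hc⟩ := f₁.isCharacter.inner_nat f₂.isCharacter
  have a0 : a ≠ 0 := fun e => u₁ (by rw [ha, e, Nat.cast_zero])
  have b0 : b ≠ 0 := fun e => u₂ (by rw [hb, e, Nat.cast_zero])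
  have gen : IsGeneralizedCharacter L (indFun H ν₁ - indFun H ν₂) := f₁.isGen.sub f₂.isGen
  have van : ∀ x, x ∉ H → (indFun H ν₁ - indFun H ν₂) x = 0 := fun x hx => by
    rw [Pi.sub_apply, indFun_of_not_mem_normal H _ hx, indFun_of_not_mem_normal H _ hx, sub_self]
  have d0 : (indFun H ν₁ - indFun H ν₂) 1 = 0 := by
    rw [Pi.sub_apply, indFun_one, indFun_one, hν₁.one_eq_one_of_comm hcomm,
      hν₂.one_eq_one_of_comm hcomm, sub_self]
  obtain ⟨Θ, hΘ⟩ : ∃ Θ, Θ = indFun L (indFun H ν₁ - indFun H ν₂) := ⟨_, rfl⟩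
  have gΘ : IsGeneralizedCharacter G Θ := hΘ ▸ gen.ind
  have t0 : classInner Θ Θ = 2 - 2 * c := by
    rw [hΘ, isom _ _ gen.isClassFunction van van d0, classInner_sub_left, classInner_sub_right,
      classInner_sub_right, f₁.inner_self, f₂.inner_self, hc, f₂.isGen.inner_symm f₁.isGen, hc]
    ring
  have t1 : ∀ ψ, IsIrrCharacter G ψ → classInner ψ Θ =
      classInner (fun k : H => ψ ((k : L) : G)) ν₁ - classInner (fun k : H => ψ ((k : L) : G)) ν₂ := by
    intro ψ i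
    rw [hΘ, classInner_indFun_right L _ i.isClassFunction, ← indFun_sub,
      classInner_indFun_right H _ (i.isClassFunction.res L), classInner_sub_right]
  have t2 : classInner ψ₁ Θ = a := by rw [t1 _ i₁, ha, z₁, sub_zero]
  have t3 : classInner ψ₂ Θ = -b := by rw [t1 _ i₂, hb, z₂, zero_sub]
  have g2 : IsGeneralizedCharacter G (Θ - (ψ₁ - ψ₂)) := gΘ.sub (i₁.isGen.sub i₂.isGen)
  obtain ⟨m, hm⟩ := g2.inner_self_nat
  have hm' := hm
  simp only [classInner_sub_left, classInner_sub_right, t0, t2, t3, gΘ.inner_symm i₁.isGen,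
    gΘ.inner_symm i₂.isGen, i₁.inner_self, i₂.inner_self, i₁.inner_of_ne i₂ hne,
    i₂.inner_of_ne i₁ (Ne.symm hne)] at hm'
  have h5 : (m : ℂ) + 2 * c + 2 * a + 2 * b = 4 := by linear_combination -hm'
  have h6 : m + 2 * c + 2 * a + 2 * b = 4 := by exact_mod_cast h5
  have h7 : m = 0 := by omega
  rw [h7, Nat.cast_zero] at hm
  have h8 := congrFun (eq_zero_of_classInner_self _ hm) 1
  rw [Pi.sub_apply, Pi.sub_apply, hΘ, indFun_one, d0] at h8
  simp only [mul_zero, Pi.zero_apply] at h8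
  linear_combination -h8

/-- a noncentral element with class size equal to the degree fixes exactly one point -/
theorem fix_of_regSC [IsSimpleGroup G] (hK : BSW.SC K)
    (hreg : ∀ x y : X, ∃! k : K, (k : G) • x = y) {g : G} (hg : g ∉ center G)
    (hi : (centralizer ({g} : Set G)).index = Fintype.card X) {x y : X} (hx : g • x = x)
    (hy : g • y = y) : x = y := by
  have hcomm : ∀ a b : K.subgroupOf ⊤, a * b = b * a := fun a b =>
    Subtype.ext (Subtype.ext (hK.comm (mem_subgroupOf.1 a.2) (mem_subgroupOf.1 b.2)))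
  have hreg' : ∀ x y : X, ∃! k : K.subgroupOf ⊤, (k : (⊤ : Subgroup G)) • x = y := by
    intro x y
    obtain ⟨k, hk, hu⟩ := hreg x y
    refine ⟨⟨⟨k, trivial⟩, k.2⟩, hk, fun l hl => ?_⟩
    have := hu ⟨l, mem_subgroupOf.1 l.2⟩ hl
    exact Subtype.ext (Subtype.ext (congrArg Subtype.val this :))
  obtain ⟨C, mC, hC, -⟩ := exists_decomp hcomm hreg' x
  have h0 : ∀ ψ ∈ C, ψ.1 g = 0 := by
    intro ψ hψ
    obtain ⟨n, hn⟩ := ψ.2.isCharacter.exists_one_eq
    have h1 := hC 1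
    rw [pch_one, Finset.sum_congr rfl (g := fun _ => (n : ℂ)) fun φ hφ => by
      rw [← hn]
      exact deg_eq_of_regSC hK hreg x φ.2 ψ.2 ((mC φ).1 hφ).1 ((mC ψ).1 hψ).1 ((mC φ).1 hφ).2
        ((mC ψ).1 hψ).2, Finset.sum_const, nsmul_eq_mul] at h1
    have h2 : Fintype.card X = 1 + C.card * n := by exact_mod_cast h1
    refine (ψ.2.eq_zero_or_norm_eq_of_coprime hn g ?_).resolve_right fun hn => hg ?_
    · rw [hi, h2, Nat.coprime_add_mul_right_left]
      exact Nat.coprime_one_left n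
    · have hk : funKer ψ.1 = ⊥ :=
        (ψ.2.isClassFunction.funKer_normal.eq_bot_or_eq_top).resolve_right
          (fun h => ((mC ψ).1 hψ).2 (ψ.2.eq_one_of_funKer_eq_top h))
      rw [mem_center_iff]
      intro u
      have := ψ.2.isCharacter.commutator_mem_funKer hn u
      rw [hk, mem_bot, mul_inv_eq_one, mul_inv_eq_iff_eq_mul] at this
      exact this.symm
  have h1 := hC g
  rw [Finset.sum_eq_zero h0, add_zero, pch_eq] at h1
  beta_reduce at h1
  have h2 : Nat.card {x : X // g • x = x} = 1 := by exact_mod_cast h1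
  have := (Nat.card_eq_one_iff_unique.1 h2).1
  exact congrArg Subtype.val (Subsingleton.elim (⟨x, hx⟩ : {x : X // g • x = x}) ⟨y, hy⟩)

end Cfsg.Lib.Ito
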