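import Cfsg.Agent.Lib.Cor.Tools8
import Cfsg.Agent.Lib.Cor.AbC
import Cfsg.Agent.Lib.Ito.RegSC

/-!
# Tools for simple groups with few conjugacy class sizes
-/

set_option autoImplicit false

namespace Cfsg.Lib.Ito
open Subgroup Cfsg Cfsg.Lib Cfsg.Lib.FT Cfsg.Lib.GW Cfsg.Lib.Big

variable {G : Type*} [Group G]

theorem c1_le_pow (x : G) (n : ℕ) : C1[x] ≤ C1[x ^ n] := fun _ hg =>
  mem_c1.2 ((Commute.pow_right (mem_c1.1 hg) n).eq)

theorem c1_mul_of_coprime {x y : G} (hc : x * y = y * x) (h : (orderOf x).Coprime (orderOf y)) :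
    C1[x * y] = C1[x] ⊓ C1[y] := by
  have hc' : Commute x y := hc
  refine le_antisymm (le_inf ?_ ?_) fun g hg => mem_c1.2 ?_
  · intro g hg
    have h1 := c1_le_pow _ (orderOf y) hg
    rw [hc'.mul_pow, pow_orderOf_eq_one, mul_one] at h1
    refine mem_c1_symm (mem_of_pow_mem_of_coprime (n := orderOf y) h.symm (mem_c1_symm h1))
  · intro g hg
    have h1 := c1_le_pow _ (orderOf x) hg
    rw [hc'.mul_pow, pow_orderOf_eq_one, one_mul] at h1
    refine mem_c1_symm (mem_of_pow_mem_of_coprime (n := orderOf x) h (mem_c1_symm h1))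
  · rw [← mul_assoc, mem_c1.1 hg.1, mul_assoc, mem_c1.1 hg.2, mul_assoc]

theorem mul_ne_one_of_coprime {x y : G} (hx : x ≠ 1) (h : (orderOf x).Coprime (orderOf y)) :
    x * y ≠ 1 := fun e => by
  rw [eq_inv_of_mul_eq_one_right e, orderOf_inv, Nat.coprime_self, orderOf_eq_one_iff] at h
  exact hx h

theorem index_c1_conj (g x : G) : (C1[g * x * g⁻¹]).index = (C1[x]).index := by
  rw [c1_conj]; exact index_map_of_bijective (MulAut.conj g).bijective _

variable [Finite G]

theorem eq_of_le_of_index {H K : Subgroup G} (h : H ≤ K) (e : H.index = K.index) : H = K := by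
  refine eq_of_le_of_card_ge h (le_of_eq ?_)
  have h1 := H.index_mul_card
  have h2 := K.index_mul_card
  rw [e, ← h2] at h1
  exact (Nat.eq_of_mul_eq_mul_left (Nat.pos_of_ne_zero K.index_ne_zero_of_finite) h1).symm

theorem exists_pow_prime {x : G} (hx : x ≠ 1) : ∃ n, (orderOf (x ^ n)).Prime := by
  obtain ⟨p, hp, m, hm⟩ := Nat.exists_prime_and_dvd (mt orderOf_eq_one_iff.1 hx)
  have h0 : m ≠ 0 := by rintro rfl; exact (orderOf_pos x).ne' (by simpa using hm)
  refine ⟨m, ?_⟩
  rw [orderOf_pow_of_dvd h0 ⟨p, by rw [hm, mul_comm]⟩, hm, Nat.mul_div_cancel _ (Nat.pos_of_ne_zero h0)]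
  exact hp

theorem index_inf_of_coprime {H K : Subgroup G} (h : H.index.Coprime K.index) :
    (H ⊓ K).index = H.index * K.index :=
  le_antisymm index_inf_le (Nat.le_of_dvd (Nat.pos_of_ne_zero index_ne_zero_of_finite)
    (h.mul_dvd_of_dvd_of_dvd (index_dvd_of_le inf_le_left) (index_dvd_of_le inf_le_right)))

theorem exists_mul_of_coprime {H K : Subgroup G} (h : H.index.Coprime K.index) (g : G) :
    ∃ a ∈ H, ∃ b ∈ K, a * b = g := by
  have h1 := index_inf_of_coprime h
  have h2 := relIndex_mul_index (inf_le_left : H ⊓ K ≤ H)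
  rw [inf_relIndex_left, h1, mul_comm] at h2
  have h3 : K.relIndex H = K.index :=
    Nat.eq_of_mul_eq_mul_left (Nat.pos_of_ne_zero index_ne_zero_of_finite) h2
  let f : H ⧸ K.subgroupOf H → G ⧸ K := Quotient.map' Subtype.val fun a b hab => by
    rw [QuotientGroup.leftRel_apply] at hab ⊢
    exact hab
  have f1 : Function.Injective f := by
    intro a b
    induction a using QuotientGroup.induction_on with
    | H a =>
    induction b using QuotientGroup.induction_on with
    | H b =>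
    intro e
    have e' : (((a : H) : G) : G ⧸ K) = ((b : G) : G ⧸ K) := e
    have e2 := QuotientGroup.eq.1 e'
    exact QuotientGroup.eq.2 e2
  have f2 := (Nat.bijective_iff_injective_and_card f).2 ⟨f1, h3⟩
  obtain ⟨a, ha⟩ := f2.2 (g : G ⧸ K)
  induction a using QuotientGroup.induction_on with
  | H a => exact ⟨a, a.2, _, QuotientGroup.eq.1 ha, by simp⟩

theorem exists_pcentral {p : ℕ} (hp : p.Prime) (h : p ∣ Nat.card G) :
    ∃ z : G, orderOf z = p ∧ ¬ p ∣ (C1[z]).index := by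
  haveI := Fact.mk hp
  obtain ⟨S⟩ : Nonempty (Sylow p G) := inferInstance
  obtain ⟨z, -, h1, h2⟩ := pg_exists_fixed_of_order_p S.isPGroup' S.isPGroup' le_normalizer
    (S.ne_bot_of_dvd_card h)
  exact ⟨z, h1, fun e => S.not_dvd_index (e.trans (index_dvd_of_le (le_c1_iff.2 h2)))⟩

/-- if there is no proper inclusion between centralizers, involution centralizers are abelian -/
theorem sc_of_free {t : G} (ht : orderOf t = 2)
    (hF : ∀ x y : G, x ≠ 1 → y ≠ 1 → C1[x] ≤ C1[y] → C1[x] = C1[y]) : BSW.SC C1[t] := by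
  have t1 := BSW.ne_one_of_orderOf_two ht
  have t2 := BSW.mul_self_of_orderOf_two ht
  have h1 : ∀ u ∈ C1[t], u * u ≠ 1 → C1[t] ≤ C1[u] := by
    intro u hu h2
    have hc : Commute u t := mem_c1.1 hu
    have u1 : u ≠ 1 := fun e => h2 (by rw [e, mul_one])
    have u2 : u * t ≠ 1 := fun e => h2 (by
      rw [eq_inv_of_mul_eq_one_left e, ← mul_inv_rev, t2, inv_one])
    have e1 := hF _ _ u1 (pow_two u ▸ h2) (c1_le_pow u 2)
    have e2 := c1_le_pow (u * t) 2
    rw [hc.mul_pow, pow_two t, t2, mul_one] at e2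
    have e3 := hF _ _ u2 (pow_two u ▸ h2) e2
    refine (hF _ _ u1 t1 fun g hg => ?_).ge
    have a1 := mem_c1_symm hg
    have a2 := mem_c1_symm (e3.ge (e1.le hg))
    simpa using mem_c1_symm (mul_mem (inv_mem a1) a2)
  have h2 : ∀ u ∈ C1[t], C1[t] ≤ C1[u] := by
    by_contra hc
    push Not at hc
    obtain ⟨u, hu, hc⟩ := hc
    have u2 : u * u = 1 := by by_contra e; exact hc (h1 u hu e)
    have h3 : ∀ w ∈ C1[t], w * w = 1 := by
      intro w hw
      by_contra e
      have w1 := h1 w hw e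
      have cw : Commute u w := mem_c1.1 (w1 hu)
      refine hc fun g hg => ?_
      have w2 := h1 _ (mul_mem hu hw) (by
        rwa [← pow_two, cw.mul_pow, pow_two u, u2, one_mul, pow_two])
      simpa using mem_c1_symm (mul_mem (mem_c1_symm (w2 hg)) (inv_mem (mem_c1_symm (w1 hg))))
    refine hc fun g hg => mem_c1.2 ?_
    have := h3 _ (mul_mem hg hu)
    calc g * u = (g * u)⁻¹ := eq_inv_of_mul_eq_one_left this
      _ = u * g := by
        rw [mul_inv_rev, ← eq_inv_of_mul_eq_one_left u2, ← eq_inv_of_mul_eq_one_left (h3 g hg)]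
  exact fun u hu u1 => (hF _ _ t1 u1 (h2 u hu)).symm

section Simple
variable [IsSimpleGroup G] (hG : ¬ IsMulCommutative G)
include hG

omit [Finite G] in
theorem center_eq_bot : center G = ⊥ :=
  (Normal.eq_bot_or_eq_top inferInstance).resolve_right fun e =>
    hG ⟨⟨fun a b => mem_center_iff.1 (e ▸ mem_top b) a⟩⟩

omit [Finite G] in
theorem not_mem_center_iff {x : G} : x ∉ center G ↔ x ≠ 1 := by rw [center_eq_bot hG, mem_bot]

theorem index_ne_pow {x : G} (hx : x ≠ 1) {p k : ℕ} (hp : p.Prime) : (C1[x]).index ≠ p ^ k :=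
  fun e => (not_mem_center_iff hG).2 hx (mem_center_of_simple_of_index_prime_pow hp e)

theorem index_ne_one {x : G} (hx : x ≠ 1) : (C1[x]).index ≠ 1 :=
  fun e => index_ne_pow hG hx Nat.prime_two (k := 0) e

theorem exists_prime_ne {x : G} (hx : x ≠ 1) {p : ℕ} (hp : p.Prime) :
    ∃ q, q.Prime ∧ q ≠ p ∧ q ∣ (C1[x]).index := by
  by_contra hc
  push Not at hc
  exact index_ne_pow hG hx hp (Nat.eq_prime_pow_of_unique_prime_dvd index_ne_zero_of_finite
    fun {q} hq hd => by_contra fun e => hc q hq e hd)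

/-- elements with coprime class sizes do not commute -/
theorem not_comm_of_coprime {y w : G} (hy : y ≠ 1) (hw : w ≠ 1)
    (h : (C1[y]).index.Coprime (C1[w]).index) : w ∉ C1[y] := by
  intro hc
  have h1 : normalClosure {w} ≤ C1[y] := by
    refine closure_le _ |>.2 fun x hx => ?_
    obtain ⟨a, ha, hx'⟩ := Group.mem_conjugatesOfSet_iff.1 hx
    obtain ⟨g, rfl⟩ := isConj_iff.1 hx'
    obtain rfl : a = w := ha
    obtain ⟨u, hu, v, hv, rfl⟩ := exists_mul_of_coprime h g
    have : u * v * a * (u * v)⁻¹ = u * a * u⁻¹ := by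
      rw [mul_assoc u, mem_c1.1 hv]; group
    rw [this]
    exact mul_mem (mul_mem hu hc) (inv_mem hu)
  rcases (normalClosure_normal (s := {w})).eq_bot_or_eq_top with e | e
  · exact hw (mem_bot.1 (e ▸ subset_normalClosure rfl))
  · exact index_ne_one hG hy (index_eq_one.2 (top_le_iff.1 (e ▸ h1)))

/-- recognition of `L₂(2ⁿ)` -/
theorem psl2_of_sc {K : Subgroup G} (hK : BSW.SC K) (he : 2 ∣ Nat.card K) :
    ∃ n, 2 ≤ n ∧ IsoPSL2 G (2 ^ n) := by
  obtain ⟨⟨t, tK⟩, ht⟩ := exists_prime_orderOf_dvd_card' (G := K) 2 he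
  have ht : orderOf t = 2 := (orderOf_coe (⟨t, tK⟩ : K)).trans ht
  have t1 := BSW.ne_one_of_orderOf_two ht
  obtain ⟨S, hS⟩ := (isPGroup_zpowers_of_orderOf ht).exists_le_sylow
  obtain ⟨z, -, h1, h2⟩ := pg_exists_fixed_of_order_p S.isPGroup' S.isPGroup' le_normalizer
    fun e => t1 (mem_bot.1 (e ▸ hS (mem_zpowers t)))
  have h3 : (S : Subgroup G) ≤ K := (le_c1_iff.2 h2).trans (hK z ((hK t tK t1).le
    (centralizer_le_singleton (hS (mem_zpowers t)) h2)) (BSW.ne_one_of_orderOf_two h1)).le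
  have h4 : ∀ j ∈ N[K], orderOf j = 2 → j ∈ K := fun j hj h4 => by
    obtain ⟨g, h5, h6⟩ := ((IsSylowIn.of_sylow_top S).mono (h3.trans le_normalizer)
      le_top).exists_conj_le (isPGroup_zpowers_of_orderOf h4) (zpowers_le.2 hj)
    exact (mem_normalizer_iff.1 h5 j).2 (h3 (h6 (mem_map_of_mem _ (mem_zpowers j))))
  have hE : IsStronglyEmbedded N[K] := by
    refine ⟨fun e => ?_, even_iff_two_dvd.2 (he.trans (card_dvd_of_le le_normalizer)),
      fun g hg => odd_of_forall fun j hj h5 => hg ?_⟩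
    · rcases (normalizer_eq_top_iff.1 e).eq_bot_or_eq_top with e | e
      · exact t1 (mem_bot.1 (e ▸ tK))
      · exact hG ⟨⟨fun a b => hK.comm (e ▸ mem_top a) (e ▸ mem_top b)⟩⟩
    · obtain ⟨i, h6, rfl⟩ := hj.2
      have h7 := (sm_orderOf_conj g i).symm.trans h5
      have := hK.mem_normalizer (g := g) (h4 i h6 h7) (BSW.ne_one_of_orderOf_two h7) (h4 _ hj.1 h5)
      exact this
  have hc : IsMulCommutative (S : Subgroup G) :=
    ⟨⟨fun a b => Subtype.ext (hK.comm (h3 a.2) (h3 b.2))⟩⟩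
  obtain ⟨n, h3, -, -, h6 | h6 | h6⟩ := bender_suzuki' hG hE S
  · exact ⟨n, h3, h6.2⟩
  · exact absurd hc h6.2.1
  · exact absurd hc h6.2.1

/-- a strongly embedded subgroup has no central element of odd order -/
theorem eq_one_of_se {M : Subgroup G} (hM : IsStronglyEmbedded M) {y : G} (hy : y ∈ M)
    (hc : M ≤ C1[y]) (ho : Odd (orderOf y)) : y = 1 := by
  have he : Even (Nat.card G) := hM.2.1.trans_dvd (card_subgroup_dvd_card M)
  obtain ⟨-, -, -, h⟩ := bender_local (Suz.oddCore_eq_bot_of_simple he)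
    (Suz.not_pRankLE_of_simple hG he) hM
  have hn : (zpowers (⟨y, hy⟩ : M)).Normal := ⟨by
    rintro _ ⟨k, rfl⟩ g
    have : Commute g (⟨y, hy⟩ : M) := Subtype.ext (mem_c1.1 (hc g.2))
    rw [(this.zpow_right k).eq, mul_inv_cancel_right]
    exact ⟨k, rfl⟩⟩
  have h2 : zpowers (⟨y, hy⟩ : M) ≤ oddCore M := le_pPrimeCore hn (by
    rw [Nat.card_zpowers, ← orderOf_coe]; exact (Nat.coprime_two_right.2 ho))
  rw [h] at h2
  exact congrArg Subtype.val (mem_bot.1 (h2 (mem_zpowers _)))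

end Simple

end Cfsg.Lib.Ito
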