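import Cfsg.Agent.Lib.CIT.Rank

/-!
# Simple groups with 2-nilpotent involution centralizers: the strongly embedded case kept apart
-/

set_option autoImplicit false
set_option linter.unusedSectionVars false

namespace Cfsg.Lib.CIT
open Subgroup Cfsg.Lib Cfsg.Lib.FT Cfsg.Lib.Big

variable {G : Type*} [Group G] [Finite G]

theorem IsCIT.cases' [IsSimpleGroup G] (hC : IsCIT G) (hG : ¬ IsMulCommutative G) :
    (∃ M : Subgroup G, IsStronglyEmbedded M) ∨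
    (∃ S : Sylow 2 G, ∃ v ∈ (S : Subgroup G), orderOf v = 2 ∧
      Nat.card ↥((S : Subgroup G) ⊓ C1[v]) = 4) ∨
    ∃ H K : Subgroup G, Tri H K ∧ IsSylowIn 2 (vv H ⊔ vv K) ⊤ ∧ 2 < Nat.card ↥(vv H ⊓ vv K) := by
  classical
  obtain ⟨S⟩ : Nonempty (Sylow 2 G) := inferInstance
  have hS := IsSylowIn.of_sylow_top S
  have h0 := hS.ne_bot (card_top (G := G) ▸ even_iff_two_dvd.1 (even_card_of_simple hG))
  obtain ⟨M, hM⟩ : ∃ M, M = ⨆ H ∈ {H : Subgroup G | (S : Subgroup G) ≤ H ∧ o2 H ≠ ⊥}, H := ⟨_, rfl⟩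
  have hle : ∀ H : Subgroup G, (S : Subgroup G) ≤ H → o2 H ≠ ⊥ → H ≤ M := fun H h1 h2 =>
    hM ▸ le_iSup₂_of_le H ⟨h1, h2⟩ le_rfl
  have hSM : (S : Subgroup G) ≤ M :=
    le_normalizer.trans (hle _ le_normalizer (o2_n_ne_bot S.isPGroup' h0))
  by_cases hT : M = ⊤
  · obtain ⟨H, K, h, h1⟩ := exists_tri hC S h0 fun W hW h => by_contra fun hne =>
      sm_normalizer_pgroup_ne_top hG hW hne
        (top_le_iff.1 (hT.ge.trans (hM.le.trans (iSup₂_le fun H hH => h H hH.1 hH.2))))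
    rcases h.nH.two_le.eq_or_lt with h2 | h2
    · obtain ⟨S', e⟩ := h1.exists_sylow_top
      exact Or.inr (Or.inl ⟨S', h.four e.ge (inf_le_left.trans e.le) h2.symm⟩)
    · exact Or.inr (Or.inr ⟨H, K, h, h1, h2⟩)
  by_cases hE : ∀ Q ≤ (S : Subgroup G), Q ≠ ⊥ → N[Q] ≤ M
  · refine Or.inl ⟨M, (Cor.isStronglyEmbedded_of_normalizers hT (even_iff_two_dvd.2
      ((hS.dvd_card (card_top (G := G) ▸ even_iff_two_dvd.1 (even_card_of_simple hG))).trans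
        (card_dvd_of_le hSM))) fun Q hQ hp hne => ?_)⟩
    obtain ⟨k, hk, e⟩ := (hS.mono hSM le_top).exists_conj_le hp hQ
    have := hE _ e (by rwa [Ne, conj_eq_bot_iff])
    rw [← conj_normalizer] at this
    exact le_of_conj_le this (le_normalizer hk)
  push Not at hE
  obtain ⟨Q, hQ, hQ0, hQM⟩ := hE
  obtain ⟨H, ⟨h1, h2⟩, hmax⟩ := Set.exists_max_image {H : Subgroup G | ¬ H ≤ M ∧ o2 H ≠ ⊥}
    (fun H => Nat.card ↥((S : Subgroup G) ⊓ H)) (Set.toFinite _)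
    ⟨_, hQM, o2_n_ne_bot (S.isPGroup'.to_le hQ) hQ0⟩
  have key : ∀ L : Subgroup G, o2 L ≠ ⊥ → Nat.card ↥((S : Subgroup G) ⊓ H) <
      Nat.card ↥((S : Subgroup G) ⊓ L) → L ≤ M := fun L h3 h4 => by_contra fun h5 =>
    h4.not_ge (hmax L ⟨h5, h3⟩)
  have hlt : (S : Subgroup G) ⊓ H < S := lt_of_le_of_ne inf_le_left fun e =>
    h1 (hle H (e.ge.trans inf_le_right) h2)
  have hp : IsPGroup 2 ↥((S : Subgroup G) ⊓ H) := S.isPGroup'.to_inf_left
  have hne : (S : Subgroup G) ⊓ H ≠ ⊥ := fun e => by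
    have h3 := hmax _ ⟨hQM, o2_n_ne_bot (S.isPGroup'.to_le hQ) hQ0⟩
    have h4 := card_le_of_le (le_inf hQ le_normalizer)
    have h5 := (one_lt_card_iff_ne_bot _).2 hQ0
    simp only [e, card_bot] at h3
    omega
  have hN : N[((S : Subgroup G) ⊓ H : Subgroup G)] ≤ M := key _ (o2_n_ne_bot hp hne)
    (pg_card_lt_of_lt (pg_lt_inf_normalizer S.isPGroup' hlt))
  have hsyl : IsSylowIn 2 ((S : Subgroup G) ⊓ H) H := ⟨inf_le_right, hp, fun R hR h3 h4 => by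
    by_contra h5
    have h6 := pg_lt_inf_normalizer hR (lt_of_le_of_ne h4 (Ne.symm h5))
    obtain ⟨k, hk, e⟩ := (hS.mono hSM le_top).exists_conj_le hR.to_inf_left (inf_le_right.trans hN)
    refine h1 (le_of_conj_le (key _ (by rwa [← conj_o2, Ne, conj_eq_bot_iff]) ?_) (le_normalizer hk))
    exact (pg_card_lt_of_lt h6).trans_le ((card_conj k _).ge.trans (card_le_of_le
      (le_inf e (conj_le_conj_iff.2 (inf_le_left.trans h3)))))⟩
  have key2 : ∀ W : Subgroup G, IsPGroup 2 W → W ≠ ⊥ → H ≤ N[W] →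
      (S : Subgroup G) ⊓ N[W] ≤ (S : Subgroup G) ⊓ H := fun W hW h3 h4 => (eq_of_le_of_card_ge
    (inf_le_inf_left _ h4) (hmax _ ⟨fun h5 => h1 (h4.trans h5), o2_n_ne_bot hW h3⟩)).ge
  obtain ⟨g, hg, hg1⟩ := SetLike.exists_of_lt (pg_lt_inf_normalizer S.isPGroup' hlt)
  obtain ⟨K, h, e⟩ := push hC (vv_ne_bot h2) hsyl hg.2 fun W hW h3 h4 => by_contra fun h5 =>
    hg1 (key2 W hW h5 h3 ⟨hg.1, h4⟩)
  have h3 := key2 _ (vv_p H) (vv_ne_bot h2) (le_n_vv H)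
  rw [e] at hlt h3
  rcases h.nH.two_le.eq_or_lt with h4 | h4
  · exact Or.inr (Or.inl ⟨S, h.four hlt.le h3 h4.symm⟩)
  · exact absurd (h.eq_sylow hlt.le h3 h4 (sm_pResidual_eq_top hG)) hlt.ne

theorem IsNP.classify' [IsSimpleGroup G] (hI : IsNP G) (hG : ¬ IsMulCommutative G) :
    (∃ q, 3 < q ∧ IsoPSL2 G q) ∨ (IsCIT G ∧ ∃ M : Subgroup G, IsStronglyEmbedded M) ∨
      Nonempty (G ≃* alternatingGroup (Fin 7)) ∨ (IsCIT G ∧ ∃ (F : Type) (_ : Field F) (_ : Fintype F),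
        Fintype.card F = 4 ∧ Nonempty (G ≃* Matrix.ProjectiveSpecialLinearGroup (Fin 3) F)) := by
  have k4 : ∀ S : Sylow 2 G, Nat.card (S : Subgroup G) = 4 → ∃ q, 3 < q ∧ IsoPSL2 G q := fun S h => by
    obtain ⟨q, -, h1, h2⟩ := psl2_of_card_four hG S h
    exact ⟨q, by omega, h2⟩
  have key : ∀ S : Sylow 2 G, (∃ v ∈ (S : Subgroup G), orderOf v = 2 ∧
      Nat.card ↥((S : Subgroup G) ⊓ C1[v]) = 4) →
      (∃ q, 3 < q ∧ IsoPSL2 G q) ∨ Nonempty (G ≃* alternatingGroup (Fin 7)) := by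
    rintro S ⟨v, hv, h1, h2⟩
    rcases hI.dih2 (sm_pResidual_eq_top hG) S hv h1 h2 with h3 | h3
    · exact Or.inl (k4 S h3)
    · refine (GW.gorenstein_walter G hG h3).imp_left fun h => ?_
      obtain ⟨q, -, h1, h2⟩ := isoPSL2_of_isL2 h
      exact ⟨q, by omega, h2⟩
  by_cases h2 : PRankLE 2 2 G
  · obtain ⟨S⟩ : Nonempty (Sylow 2 G) := inferInstance
    obtain ⟨z, hz, hz1⟩ := exists_ne_one (oz_ne_bot S.isPGroup' ((IsSylowIn.of_sylow_top S).ne_bot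
      (card_top (G := G) ▸ even_iff_two_dvd.1 (even_card_of_simple hG))))
    by_cases hZ : ∀ w ∈ oz (S : Subgroup G), w = 1 ∨ w = z
    · exact (key S (hI.exists_four hG h2 S hz hz1 hZ)).imp_right fun h => Or.inr (Or.inl h)
    push Not at hZ
    obtain ⟨w, hw, hw1, hwz⟩ := hZ
    have h := R2.cen4_of_rank (R2.pRankLE_subgroup h2 _) (z := ⟨z, hz.1⟩) (w := ⟨w, hw.1⟩)
      (Subtype.ext hz.2.2) (Subtype.ext hw.2.2) (by simpa) (by simpa) (by simpa using hwz.symm)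
      (fun b => Subtype.ext (mem_centralizer_iff.1 hz.2.1 b b.2).symm)
      fun b => Subtype.ext (mem_centralizer_iff.1 hw.2.1 b b.2).symm
    by_cases hS : ∀ x y : (S : Subgroup G), x * y = y * x
    · exact Or.inl (k4 S (R2.homocyclic hG S ⟨⟨hS⟩⟩ h2))
    push Not at hS
    obtain ⟨r, hr, ⟨k, hk⟩, hrz⟩ := h.exists_mover hG S
    refine ((h.isU S.isPGroup' (R2.nAut_pow hr hk) hrz hS).case3 hG hr
      ((Odd.pow (by norm_num)).of_dvd_nat (orderOf_dvd_of_pow_eq_one hk)) hrz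
      fun a ha ho hc x hx => ?_).elim
    exact (mem_centralizer_iff.1 (le_centralizer_of_hasNormalPComplement (hI z hz.2.2 hz1)
      (zpowers_le.2 (mem_C1.2 hc)) (by rw [Nat.card_zpowers]; exact ho.not_two_dvd_nat)
      (le_C1_iff.2 hz.2.1) S.isPGroup' (zpowers_le.2 ha) (mem_zpowers a)) x hx).symm
  have hC : IsCIT G := fun t h1 h3 => by
    have h4 := core_eq_bot_of_solvable hG h2 (fun t ht => isPConstrained_of_isSolvable
      (sc_solv_of_npc (hI t (h9_orderOf_eq_two_iff.1 ht).2 (h9_orderOf_eq_two_iff.1 ht).1)))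
      (h9_orderOf_eq_two_iff.2 ⟨h3, h1⟩)
    obtain ⟨P, hP⟩ := exists_isSylowIn 2 C1[t]
    have := (isComplIn_of_hasNormalPComplement (hI t h1 h3) hP).sup_eq
    rw [← centralizerPPrimeCore_eq, h4, bot_sup_eq] at this
    exact this ▸ hP.isPGroup
  rcases hC.cases' hG with h | ⟨S, h⟩ | ⟨H, K, h, h3, h4⟩
  · exact Or.inr (Or.inl ⟨hC, h⟩)
  · exact (key S h).imp_right fun h => Or.inr (Or.inl h)
  · exact Or.inr (Or.inr (Or.inr ⟨hC, Pl.iso ⟨h, h3, h4⟩⟩))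

end Cfsg.Lib.CIT
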