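import Cfsg.Agent.Lib.Ito.Basic

/-!
# Groups whose noncentral primary elements have one class size
-/

set_option autoImplicit false

namespace Cfsg.Lib.Ito
open Subgroup Cfsg Cfsg.Lib Cfsg.Lib.FT Cfsg.Lib.GW Cfsg.Lib.Big
open scoped commutatorElement

variable {G : Type*} [Group G]

/-- `u` is a `p`-element -/
def PE (p : ℕ) (u : G) : Prop := ∃ k, u ^ p ^ k = 1

theorem PE.of_mem {p : ℕ} {P : Subgroup G} (hP : IsPGroup p P) {u : G} (hu : u ∈ P) : PE p u := by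
  obtain ⟨k, hk⟩ := hP ⟨u, hu⟩
  exact ⟨k, congrArg Subtype.val hk⟩

theorem PE.of_orderOf {p : ℕ} {u : G} (h : orderOf u = p) : PE p u :=
  ⟨1, by rw [pow_one, ← h, pow_orderOf_eq_one]⟩

theorem PE.pg {p : ℕ} [Fact p.Prime] {u : G} (h : PE p u) : IsPGroup p (zpowers u) :=
  h.elim fun _ hk => isPGroup_zpowers_of_pow hk

theorem PE.coprime {p n : ℕ} {u : G} (h : PE p u) (hn : p.Coprime n) : (orderOf u).Coprime n :=
  h.elim fun _ hk => (hn.pow_left _).coprime_dvd_left (orderOf_dvd_of_pow_eq_one hk)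

theorem PE.coprime' {p q : ℕ} {u v : G} (h : PE p u) (h' : PE q v) (hp : p.Prime) (hq : q.Prime)
    (hne : p ≠ q) : (orderOf u).Coprime (orderOf v) :=
  h.coprime (h'.coprime ((Nat.coprime_primes hq hp).2 hne.symm)).symm

theorem PE.mul {p : ℕ} {u v : G} (h : PE p u) (h' : PE p v) (hc : Commute u v) : PE p (u * v) := by
  obtain ⟨k, hk⟩ := h
  obtain ⟨l, hl⟩ := h'
  refine ⟨k + l, ?_⟩
  rw [hc.mul_pow, pow_add, pow_mul, hk, one_pow, mul_comm (p ^ k), pow_mul, hl, one_pow, one_mul]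

theorem PE.conj {p : ℕ} {u : G} (h : PE p u) (g : G) : PE p (g * u * g⁻¹) :=
  h.imp fun k hk => by rw [conj_pow, hk]; group

theorem PE.inv {p : ℕ} {u : G} (h : PE p u) : PE p u⁻¹ :=
  h.imp fun k hk => by rw [inv_pow, hk, inv_one]

theorem PE.eq_one {p q : ℕ} {u : G} (h : PE p u) (h' : PE q u) (hp : p.Prime) (hq : q.Prime)
    (hne : p ≠ q) : u = 1 := by
  simpa using h.coprime' h' hp hq hne

theorem PE.dvd {p : ℕ} {u : G} (h : PE p u) (hp : p.Prime) (h1 : u ≠ 1) : p ∣ orderOf u := by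
  obtain ⟨k, hk⟩ := h
  obtain ⟨j, -, hj⟩ := (Nat.dvd_prime_pow hp).1 (orderOf_dvd_of_pow_eq_one hk)
  rcases j with _ | j
  · exact absurd (orderOf_eq_one_iff.1 hj) h1
  · exact hj ▸ dvd_pow_self p j.succ_ne_zero

theorem mem_center_iff_c1 {u : G} : u ∈ center G ↔ C1[u] = ⊤ := by
  rw [mem_center_iff, eq_top_iff]
  exact ⟨fun h g _ => mem_c1.2 (h g), fun h g => mem_c1.1 (h (mem_top g))⟩

theorem center_le_c1 (u : G) : center G ≤ C1[u] := fun _ h => mem_c1.2 (mem_center_iff.1 h u).symm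

variable [Finite G]

theorem not_dvd_index_of_sylow {p : ℕ} [Fact p.Prime] {P K : Subgroup G} (hP : IsSylowIn p P ⊤)
    (h : P ≤ K) : ¬ p ∣ K.index := fun e =>
  hP.not_dvd_relIndex (by rw [relIndex_top_right]; exact e.trans (index_dvd_of_le h))

theorem exists_sylow_le {p : ℕ} [Fact p.Prime] {K : Subgroup G} (h : ¬ p ∣ K.index) :
    ∃ P, IsSylowIn p P ⊤ ∧ P ≤ K := by
  obtain ⟨P, hP⟩ := exists_isSylowIn p K
  refine ⟨P, .of_not_dvd_relIndex le_top hP.isPGroup fun e => ?_, hP.le⟩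
  rw [relIndex_top_right, ← relIndex_mul_index hP.le] at e
  exact ((Fact.out : p.Prime).dvd_mul.1 e).elim hP.not_dvd_relIndex h

/-- an elementary abelian quotient acting without fixed points is cyclic -/
theorem relIndex_dvd_of_fpf {p : ℕ} {P U E : Subgroup G} (hU : IsMulCommutative U) (h0 : U ≠ ⊥)
    (hn : P ≤ N[U]) (hE : E ≤ C[U]) (hc : ∀ a ∈ P, ∀ b ∈ P, ⁅a, b⁆ ∈ E) (hp : ∀ a ∈ P, a ^ p ∈ E)
    (hf : ∀ u ∈ U, u ≠ 1 → C1[u] ≤ E) : E.relIndex P ∣ p := by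
  obtain ⟨W, ⟨h1, h2, h3⟩, hm⟩ := exists_minimal_of_wellFoundedLT
    (fun W : Subgroup G => W ≤ U ∧ W ≠ ⊥ ∧ P ≤ N[W]) ⟨U, le_rfl, h0, hn⟩
  let : CommGroup W := { mul_comm := fun a b => Subtype.ext (comm_of_isMulCommutative hU (h1 a.2) (h1 b.2)) }
  have := (nontrivial_iff_ne_bot W).2 h2
  let φ : P →* MulAut W := W.normalizerMonoidHom.comp (inclusion h3)
  have hφ : ∀ (a : P) (w : W), (φ a w : G) = a * w * (a : G)⁻¹ := fun a w => rfl
  have hk : φ.ker = E.subgroupOf P := by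
    ext a
    rw [MonoidHom.mem_ker, mem_subgroupOf]
    constructor
    · intro e
      obtain ⟨w, hw⟩ := exists_ne (1 : W)
      refine hf w (h1 w.2) (fun e => hw (Subtype.ext e)) (mem_c1_of_conj ?_)
      rw [← hφ, e]; rfl
    · intro e
      ext w
      rw [hφ, ← mem_centralizer_iff.1 (hE e) w (h1 w.2)]; simp
  have hcyc := isCyclic_range_of_irreducible (A := φ.range) (V := W) (by
    rintro ⟨_, a, rfl⟩ ⟨_, b, rfl⟩
    refine Subtype.ext (commutatorElement_eq_one_iff_mul_comm.1 ?_)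
    exact (map_commutatorElement φ a b).symm.trans (hk.ge (hc a a.2 b b.2))) φ.range.subtype (by
    intro X hX
    refine or_iff_not_imp_left.2 fun hne => eq_top_iff.2 fun w _ => ?_
    obtain ⟨y, hy, e⟩ := hm (y := X.map W.subtype) ⟨(map_subtype_le _).trans h1,
      fun e => hne ((map_eq_bot_iff_of_injective _ W.subtype_injective).1 e),
      Subgroup.le_normalizer_iff.2 (by
        rintro a ha _ ⟨x, hx, rfl⟩
        exact ⟨_, hX ⟨_, ⟨a, ha⟩, rfl⟩ x hx, rfl⟩)⟩ (map_subtype_le _) w.2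
    rwa [← Subtype.ext e])
  rw [range_subtype] at hcyc
  rw [relIndex, ← hk, index_ker, ← IsCyclic.exponent_eq_card]
  refine Monoid.exponent_dvd_of_forall_pow_eq_one ?_
  rintro ⟨_, a, rfl⟩
  exact Subtype.ext ((map_pow φ a p).symm.trans (hk.ge (hp a a.2)))

/-- a `p`-group is not the union of the conjugates of a proper subgroup -/
theorem exists_not_conj {p : ℕ} [Fact p.Prime] {P C : Subgroup G} (hP : IsPGroup p P) (h : C < P) :
    ∃ M, C ≤ M ∧ M < P ∧ P ≤ N[M] := by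
  obtain ⟨M, ⟨h1, h2⟩, hm⟩ := exists_maximal_of_wellFoundedGT
    (fun M : Subgroup G => C ≤ M ∧ M < P) ⟨C, le_rfl, h⟩
  refine ⟨M, h1, h2, by_contra fun e => ?_⟩
  have h3 := pg_lt_inf_normalizer hP h2
  exact h3.not_ge (hm ⟨h1.trans h3.le, lt_of_le_of_ne inf_le_left
    fun e' => e (e'.ge.trans inf_le_right)⟩ h3.le)

/-- all noncentral primary elements have class size `n` -/
def Cs (G : Type*) [Group G] (n : ℕ) : Prop :=
  ∀ p : ℕ, p.Prime → ∀ u : G, PE p u → u ∉ center G → (C1[u]).index = n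

/-- every noncentral primary element has a partner of coprime order with the same centralizer -/
def Par (G : Type*) [Group G] : Prop :=
  ∀ p : ℕ, p.Prime → ∀ u : G, PE p u → u ∉ center G →
    ∃ q : ℕ, q.Prime ∧ q ≠ p ∧ ∃ y : G, PE q y ∧ C1[y] = C1[u]

variable {n : ℕ}

theorem Cs.eq (h : Cs G n) {p q : ℕ} (hp : p.Prime) (hq : q.Prime) {u v : G} (hu : PE p u)
    (hv : PE q v) (u0 : u ∉ center G) (v0 : v ∉ center G) (e : C1[u] ≤ C1[v]) : C1[u] = C1[v] :=
  eq_of_le_of_index e ((h p hp u hu u0).trans (h q hq v hv v0).symm)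

theorem Cs.central (h : Cs G n) {p q : ℕ} (hp : p.Prime) [Fact q.Prime] (hq : q ∣ n) {u : G}
    (hu : PE p u) {Q : Subgroup G} (hQ : IsSylowIn q Q ⊤) (e : Q ≤ C1[u]) : u ∈ center G :=
  by_contra fun u0 => not_dvd_index_of_sylow hQ e (h p hp u hu u0 ▸ hq)

theorem Cs.exists_pe (h : Cs G n) {r : ℕ} (hr : r.Prime) {x : G} (hx : PE r x) (x0 : x ∉ center G)
    {E : Subgroup G} (hE : E.index = n) : ∃ y ∈ E, PE r y ∧ y ∉ center G := by
  have := Fact.mk hr
  by_contra hc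
  push Not at hc
  obtain ⟨R, hR⟩ := exists_isSylowIn r E
  obtain ⟨R', hR', h1⟩ := exists_isSylowIn_ge hx.pg (zpowers_le.2 (self_mem_c1 x))
  have h2 : R ≤ center G := fun y hy => hc y (hR.le hy) (.of_mem hR.isPGroup hy)
  have h3 : R ≤ R' := hR'.le_of_le_normalizer hR.isPGroup (h2.trans (center_le_c1 x))
    (h2.trans (center_le_normalizer _))
  have h4 : Nat.card E = Nat.card C1[x] := by
    have := E.index_mul_card.trans (C1[x]).index_mul_card.symm
    rw [hE, h r hr x hx x0] at this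
    exact Nat.eq_of_mul_eq_mul_left (Nat.pos_of_ne_zero (hE ▸ index_ne_zero_of_finite)) this
  rw [eq_of_le_of_card_ge h3 (by rw [hR.card_eq, hR'.card_eq, h4])] at h2
  exact x0 (h2 (h1 (mem_zpowers x)))

theorem Cs.core (h : Cs G n) (hy : Par G) {r : ℕ} (hr : r.Prime) {x : G} (hx : PE r x)
    (x0 : x ∉ center G) {p : ℕ} [hp : Fact p.Prime] (hd : p ∣ n) {P : Subgroup G}
    (hP : IsSylowIn p P ⊤) : ¬ p ^ 2 ∣ n ∧ ∃ q : ℕ, q.Prime ∧ q ≠ p ∧ ∃ U : Subgroup G,
      IsPGroup q U ∧ U ≠ ⊥ ∧ U ⊓ center G = ⊥ ∧ P ≤ N[U] ∧ N[U].index ∣ n := by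
  have h1 : P ⊓ center G < P := lt_of_le_of_ne inf_le_left fun e =>
    x0 (h.central hr hd hx hP ((e.ge.trans inf_le_right).trans (center_le_c1 x)))
  have h2 : P ≤ N[(P ⊓ center G : Subgroup G)] :=
    pg_le_normalizer_inf le_normalizer (le_normalizer_of_normal)
  obtain ⟨v, v1, v2, v3, v4⟩ := pg_exists_fixed_mod hP.isPGroup hP.isPGroup le_normalizer h1 h2 h2
  have v0 : v ∉ center G := fun e => v2 ⟨v1, e⟩
  have cv : ∀ a ∈ P, ∀ g, g * ⁅v, a⁆ = ⁅v, a⁆ * g := fun a ha => mem_center_iff.1 (v4 a ha).2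
  have ev : ∀ a ∈ P, v * a = ⁅v, a⁆ * (a * v) := fun a _ => by
    rw [commutatorElement_def]; group
  have nE : P ≤ N[C1[v]] := fun a ha => pg_mem_normalizer_of_conj_mem fun g hg => mem_c1.2 (by
    have e1 := ev a ha
    have e2 := cv a ha
    generalize ⁅v, a⁆ = z at e1 e2
    have e3 : a⁻¹ * v = z * (v * a⁻¹) := by
      calc a⁻¹ * v = a⁻¹ * (v * a) * a⁻¹ := by group
        _ = _ := by rw [e1, ← mul_assoc, e2]; group
    calc a * g * a⁻¹ * v = a * g * (a⁻¹ * v) := by group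
      _ = a * (g * z) * (v * a⁻¹) := by rw [e3]; group
      _ = (a * z) * (g * v) * a⁻¹ := by rw [e2]; group
      _ = z * (a * v) * g * a⁻¹ := by rw [e2, mem_c1.1 hg]; group
      _ = _ := by rw [← e1]; group)
  obtain ⟨q, hq, hqp, y, y1, y2⟩ := hy p hp.out v (.of_mem hP.isPGroup v1) v0
  have := Fact.mk hq
  have hA : C[C1[v]] ≤ C1[v] := centralizer_le_singleton (self_mem_c1 v)
  have hA' : C[C1[v]] ≤ C[C[C1[v]]] := hA.trans (le_centralizer_iff.1 le_rfl)
  obtain ⟨Y, hY, y3⟩ := exists_isSylowIn_ge y1.pg (zpowers_le.2 (le_c1_iff.1 y2.ge))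
  have cY : IsMulCommutative Y := isMulCommutative_of_forall fun a ha b hb =>
    mem_centralizer_iff.1 (hA' (hY.le hb)) a (hY.le ha)
  have nY : P ≤ N[Y] := fun a ha => mem_normalizer_of_map_conj_eq (by
    have h3 := hY.conj_of_mem_normalizer (pg_le_normalizer_centralizer nE ha)
    exact eq_of_le_of_card_ge (hY.le_of_le_normalizer h3.isPGroup h3.le
      ((h3.le.trans (hA'.trans (centralizer_mono hY.le))).trans (centralizer_le_normalizer _)))
      (hY.card_eq_card h3).le)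
  have cop : (Nat.card P).Coprime (Nat.card Y) :=
    IsPGroup.coprime_card_of_ne p q hqp.symm _ _ hP.isPGroup hY.isPGroup
  have hU : ⁅Y, P⁆ ≤ Y := commutator_le.2 fun a ha b hb => by
    rw [commutatorElement_def, mul_assoc, mul_assoc, ← mul_assoc b]
    exact mul_mem ha (pg_conj_mem_of_mem_normalizer (nY hb) (inv_mem ha))
  have U0 : ⁅Y, P⁆ ≠ ⊥ := fun e => v0 (by
    rw [mem_center_iff_c1, ← y2, ← mem_center_iff_c1]
    exact h.central hq hd y1 hP (le_c1_iff.2 (commutator_eq_bot_iff_le_centralizer.1 e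
      (y3 (mem_zpowers y)))))
  have U1 : ⁅Y, P⁆ ⊓ center G = ⊥ := eq_bot_iff.2 ((inf_le_inf_left _ (center_le_centralizer _)).trans
    (commutator_inf_centralizer_eq_bot_of_comm nY cop cY).le)
  have U2 : C1[v] ≤ C[⁅Y, P⁆] := le_centralizer_iff.1 (hU.trans hY.le)
  have U3 := le_normalizer_commutator_right Y P
  have i1 := h p hp.out v (.of_mem hP.isPGroup v1) v0
  refine ⟨fun e => ?_, q, hq, hqp, _, hY.isPGroup.to_le hU, U0, U1, U3,
    i1 ▸ index_dvd_of_le (U2.trans (centralizer_le_normalizer _))⟩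
  have h3 : (C1[v]).relIndex P ∣ p := by
    let f : P →* center G := MonoidHom.mk' (fun a => ⟨⁅v, a.1⁆, (v4 a a.2).2⟩) fun a b =>
      Subtype.ext (by
        have e2 := cv b b.2 a
        simp only [coe_mul, commutatorElement_def] at e2 ⊢
        calc _ = v * a * v⁻¹ * (v * b * v⁻¹ * (b : G)⁻¹) * (a : G)⁻¹ := by group
          _ = v * a * v⁻¹ * (a : G)⁻¹ * (a * (v * b * v⁻¹ * (b : G)⁻¹)) * (a : G)⁻¹ := by group
          _ = _ := by rw [e2]; group)
    have hf : ∀ a : P, f a = 1 → (a : G) ∈ C1[v] := fun a e =>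
      mem_c1.2 (commutatorElement_eq_one_iff_mul_comm.1 (congrArg Subtype.val e)).symm
    refine relIndex_dvd_of_fpf (isMulCommutative_of_forall fun a ha b hb =>
      comm_of_isMulCommutative cY (hU ha) (hU hb)) U0 U3 U2 (fun a ha b hb => hf ⁅(⟨a, ha⟩ : P), (⟨b, hb⟩ : P)⁆ ?_)
      (fun a ha => hf (⟨a, ha⟩ ^ p) ?_) fun u hu u1 => (h.eq hp.out hq (.of_mem hP.isPGroup v1)
        (.of_mem hY.isPGroup (hU hu)) v0 (fun e => u1 (mem_bot.1 (U1.le ⟨hu, e⟩)))
        (U2.trans (centralizer_le_singleton hu))).ge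
    · rw [map_commutatorElement, commutatorElement_eq_one_iff_mul_comm]
      exact Subtype.ext (cv b hb _)
    · rw [map_pow]
      refine Subtype.ext ?_
      have e1 := ev a ha
      have e2 := cv a ha
      change ⁅v, a⁆ ^ p = 1
      generalize ⁅v, a⁆ = z at e1 e2
      have e3 : a⁻¹ * v * a⁻¹⁻¹ = z * v := by
        rw [inv_inv, mul_assoc, e1, ← mul_assoc, e2]; group
      have e4 := congrArg (· ^ p) e3
      simp only [conj_pow, (Commute.mul_pow (e2 v).symm p :)] at e4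
      rw [mem_center_iff.1 v3.2, inv_inv, mul_assoc, inv_mul_cancel, mul_one] at e4
      simpa using e4.symm
  have h4 := relIndex_sup_of_le_normalizer' nE
  have h5 := relIndex_mul_index (le_sup_right : C1[v] ≤ P ⊔ C1[v])
  rw [h4, i1] at h5
  obtain ⟨c, hc⟩ := h3
  refine not_dvd_index_of_sylow hP (le_sup_left : P ≤ P ⊔ C1[v]) ?_
  have h6 : p * p ∣ p * (P ⊔ C1[v]).index := by
    rw [← pow_two]; refine e.trans ?_
    rw [← h5]; exact Nat.mul_dvd_mul_right ⟨c, hc⟩ _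
  exact Nat.dvd_of_mul_dvd_mul_left hp.out.pos h6

theorem Cs.a3 (h : Cs G n) (hy : Par G) {r : ℕ} (hr : r.Prime) {x : G} (hx : PE r x)
    (x0 : x ∉ center G) {s : ℕ} (hs : s.Prime) (s2 : s ≠ 2)
    (hπ : ∀ q : ℕ, q.Prime → q ∣ Nat.card G → q = 2 ∨ q = s) (d2 : 2 ∣ n) (ds : s ∣ n) : False := by
  have := Fact.mk hs
  obtain ⟨P, hP⟩ := exists_isSylowIn s (⊤ : Subgroup G)
  obtain ⟨T, hT⟩ := exists_isSylowIn 2 (⊤ : Subgroup G)
  obtain ⟨-, q, hq, hqs, U, U1, U0, U2, U3, U4⟩ := h.core hy hr hx x0 ds hP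
  have := Fact.mk hq
  obtain rfl : q = 2 := (hπ q hq ((U1.card_eq_or_dvd.resolve_left fun e =>
    U0 (eq_bot_of_card_eq _ e)).trans (card_subgroup_dvd_card U))).resolve_right hqs
  obtain ⟨k, hk⟩ : ∃ k, N[U].index = 2 ^ k := ⟨_, Nat.eq_prime_pow_of_unique_prime_dvd
    index_ne_zero_of_finite fun {d} hd e => (hπ d hd (e.trans (index_dvd_card _))).resolve_right
      fun e' => not_dvd_index_of_sylow hP U3 (e' ▸ e)⟩
  have hi : N[U].index = 1 ∨ N[U].index = 2 := by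
    rcases k with _ | _ | k
    · exact .inl hk
    · exact .inr hk
    · exact absurd ((pow_dvd_pow 2 (by omega)).trans (hk ▸ U4)) (h.core hy hr hx x0 d2 hT).1
  have hN : N[U].Normal := hi.elim (fun e => index_eq_one.1 e ▸ inferInstance)
    normal_of_index_eq_two
  have h1 := hT.inf_of_le_normalizer (le_top (a := N[U])) le_normalizer_of_normal
  have h2 := h1.le_of_normalizes U1 le_normalizer inf_le_right
  obtain ⟨z, z1, z2, z3⟩ := pg_exists_fixed_of_order_p U1 h1.isPGroup inf_le_right U0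
  have zc : ∀ g ∈ T, g ∈ N[U] → g * z = z * g := fun g a b => mem_centralizer_iff.1 z3 g ⟨a, b⟩
  refine BSW.ne_one_of_orderOf_two z2 (mem_bot.1 (U2.le ⟨z1, h.central Nat.prime_two d2
    (.of_orderOf z2) hT fun t ht => mem_c1.2 (by_contra fun hc => ?_)⟩))
  have t0 : t ∉ N[U] := fun e => hc (zc t ht e)
  have i2 := hi.resolve_left fun e => t0 (index_eq_one.1 e ▸ mem_top t)
  have e1 := zc _ (mul_mem (mul_mem ht (h2 z1).1) (inv_mem ht)) (hN.conj_mem _ (h2 z1).2 t)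
  have e2 : ∀ g ∈ T, g ∈ N[U] → g * (z * (t * z * t⁻¹)) = z * (t * z * t⁻¹) * g := fun g a b => by
    have := zc _ (mul_mem (mul_mem (inv_mem ht) a) ht) (hN.conj_mem' _ b t)
    calc _ = z * (t * (t⁻¹ * g * t * z) * t⁻¹) := by rw [← mul_assoc, zc g a b]; group
      _ = _ := by rw [this]; group
  have e3 : z * (t * z * t⁻¹) ∈ center G := h.central Nat.prime_two d2
    ((PE.of_orderOf z2).mul ((PE.of_orderOf z2).conj t) e1.symm) hT fun g hg => mem_c1.2 (by
      by_cases b : g ∈ N[U]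
      · exact e2 g hg b
      have e4 := e2 _ (mul_mem (inv_mem ht) hg) ((mul_mem_iff_of_index_two i2).2 (by simp [t0, b]))
      have e5 := zc _ (mul_mem ht ht) (mul_self_mem_of_index_two i2 t)
      calc _ = t * (t⁻¹ * g * (z * (t * z * t⁻¹))) := by group
        _ = t * z * t⁻¹ * (t * t * z) * t⁻¹ * t⁻¹ * g := by rw [e4]; group
        _ = t * z * t⁻¹ * z * g := by rw [e5]; group
        _ = _ := by rw [e1])
  have U5 : P ≤ N[t •ᶜ U] := by
    rw [normalizer_map_conj, map_conj_eq_of_mem_normalizer (le_normalizer_of_normal (mem_top t))]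
    exact U3
  obtain ⟨a, a1, b, b1, e⟩ := CoprimeAct.exists_centralizer_mul_centralizer U3 U5
    (.of_isPGroup_right U1.to_inf_left (odd_of_isPGroup s2 hP.isPGroup).not_two_dvd_nat
      (pg_le_normalizer_inf U3 U5))
    z1 (mem_map_of_mem _ z1) (center_le_centralizer _ e3)
  change a * b = z * (t * z * t⁻¹) at e
  have a2 : a = 1 := mem_bot.1 (U2.le ⟨a1.1, h.central Nat.prime_two ds (.of_mem U1 a1.1) hP
    (le_c1_iff.2 a1.2)⟩)
  have b2 : b ∈ center G := h.central Nat.prime_two ds (.of_mem (U1.map _) b1.1) hP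
    (le_c1_iff.2 b1.2)
  have b3 := mem_map_conj.1 b1.1
  rw [mem_center_iff.1 b2, inv_mul_cancel_right] at b3
  rw [a2, mem_bot.1 (U2.le ⟨b3, b2⟩), mul_one, eq_comm, mul_eq_one_iff_inv_eq,
    inv_eq_of_mul_eq_one_right (BSW.mul_self_of_orderOf_two z2), eq_mul_inv_iff_mul_eq] at e
  exact hc e.symm

theorem Cs.a1 (h : Cs G n) (hy : Par G) {r : ℕ} (hr : r.Prime) {x : G} (hx : PE r x)
    (x0 : x ∉ center G) (hab : ∀ p : ℕ, p.Prime → ∀ u : G, PE p u → u ∉ center G →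
      C1[u] ≤ C[C1[u]]) : False := by
  have nE : ∀ p : ℕ, p.Prime → ∀ u : G, PE p u → u ∉ center G → ∀ g a, a ∈ C1[u] →
      g * a * g⁻¹ ∈ C1[u] := by
    intro q hq u hu u0 g a ha
    suffices e : N[C1[u]].index = 1 from
      pg_conj_mem_of_mem_normalizer ((index_eq_one.1 e).ge (mem_top g)) ha
    by_contra e
    obtain ⟨p, hp, hd⟩ := Nat.exists_prime_and_dvd e
    have := Fact.mk hp
    have i1 := h q hq u hu u0
    have i2 := relIndex_mul_index (le_normalizer : C1[u] ≤ _)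
    have d1 : p ∣ n := i1 ▸ hd.trans (index_dvd_of_le le_normalizer)
    obtain ⟨R, hR⟩ := exists_isSylowIn p C1[u]
    obtain ⟨P, hP, h1⟩ := exists_isSylowIn_ge hR.isPGroup le_top
    refine (h.core hy hr hx x0 d1 hP).1 ?_
    rw [← i1, ← i2, pow_two]
    refine Nat.mul_dvd_mul (by_contra fun h2 => ?_) hd
    have h3 := pg_lt_inf_normalizer hP.isPGroup (lt_of_le_of_ne h1 fun e =>
      not_dvd_index_of_sylow hP (e ▸ hR.le) (i1 ▸ d1))
    obtain ⟨v, v1, v0⟩ : ∃ v ∈ P, v ∉ center G := by_contra fun hc => x0 (h.central hr d1 hx hP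
      (le_trans (fun v hv => by_contra fun e => hc ⟨v, hv, e⟩) (center_le_c1 x)))
    obtain ⟨y, y1, y2, y0⟩ := h.exists_pe hp (.of_mem hP.isPGroup v1) v0 i1
    have y3 : y ∈ R := hR.le_of_normalizes y2.pg (zpowers_le.2 y1) ((hR.le.trans ((hab q hq u hu u0).trans
      (centralizer_mono (zpowers_le.2 y1)))).trans (centralizer_le_normalizer _)) (mem_zpowers y)
    have h4 : C[R] = C1[u] := le_antisymm ((centralizer_le_singleton y3).trans (h.eq hq hp hu y2 u0 y0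
      ((hab q hq u hu u0).trans (centralizer_le_singleton y1))).ge)
      ((hab q hq u hu u0).trans (centralizer_mono hR.le))
    have h5 : IsSylowIn p R N[C1[u]] := .of_not_dvd_relIndex (hR.le.trans le_normalizer) hR.isPGroup
      fun e => by
        rw [← relIndex_mul_relIndex _ _ _ hR.le le_normalizer] at e
        exact (hp.dvd_mul.1 e).elim hR.not_dvd_relIndex h2
    exact h3.ne (h5.3 _ hP.isPGroup.to_inf_left (inf_le_right.trans
      (h4 ▸ pg_le_normalizer_centralizer le_rfl)) h3.le).symm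
  obtain ⟨p, hp, u, hu, u1⟩ : ∃ p : ℕ, p.Prime ∧ ∃ u, PE p u ∧ u ∉ C1[x] := by
    by_contra hc
    push Not at hc
    refine x0 (mem_center_iff_c1.2 (top_le_iff.1 (le_of_forall_isSylowIn fun q hq _ => ?_)))
    obtain ⟨P, hP⟩ := exists_isSylowIn q (⊤ : Subgroup G)
    exact ⟨P, hP, fun u hu => hc q hq u (.of_mem hP.isPGroup hu)⟩
  have u0 : u ∉ center G := fun e => u1 (center_le_c1 x e)
  obtain ⟨q, hq, hqp, y, y1, y2⟩ : ∃ q : ℕ, q.Prime ∧ q ≠ p ∧ ∃ y : G, PE q y ∧ C1[y] = C1[x] := by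
    by_cases e : r = p
    · exact e ▸ hy r hr x hx x0
    · exact ⟨r, hr, e, x, hx, rfl⟩
  have y0 : y ∉ center G := by rwa [mem_center_iff_c1, y2, ← mem_center_iff_c1]
  have c1 : PE p (u * (y * u⁻¹ * y⁻¹)) := hu.mul (hu.inv.conj y)
    (mem_c1.1 (nE p hp u hu u0 y _ (inv_mem (self_mem_c1 u)))).symm
  have c2 : PE q (u * y * u⁻¹ * y⁻¹) := (y1.conj u).mul y1.inv
    (Commute.inv_right (mem_c1.1 (nE q hq y y1 y0 u _ (self_mem_c1 y))))
  rw [← mul_assoc, ← mul_assoc] at c1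
  exact u1 (y2 ▸ mem_c1_of_conj (mul_inv_eq_one.1 (c2.eq_one c1 hq hp hqp)))

theorem Cs.a2 (h : Cs G n) {p q : ℕ} (hp : p.Prime) (hq : q.Prime)
    (hπ : ∀ r : ℕ, r.Prime → r ∣ Nat.card G → r = p ∨ r = q) (hd : ¬ q ∣ n) {y : G} (hy : PE q y) :
    y ∈ center G := by
  have := Fact.mk hp
  have := Fact.mk hq
  obtain ⟨P, hP⟩ := exists_isSylowIn p (⊤ : Subgroup G)
  obtain ⟨Q, hQ, h1⟩ := exists_isSylowIn_ge hy.pg le_top
  have cop : P.index.Coprime Q.index := Nat.coprime_of_dvd fun r hr e1 e2 =>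
    (hπ r hr (e1.trans (index_dvd_card _))).elim (fun e => not_dvd_index_of_sylow hP le_rfl (e ▸ e1))
      fun e => not_dvd_index_of_sylow hQ le_rfl (e ▸ e2)
  have h2 : P ≤ C[Q] := by_contra fun hc => by
    obtain ⟨M, m1, m2, m3⟩ := exists_not_conj hP.isPGroup
      (lt_of_le_of_ne (inf_le_left : P ⊓ C[Q] ≤ P) fun e => hc (e.ge.trans inf_le_right))
    obtain ⟨u, u1, u2⟩ := SetLike.exists_of_lt m2
    have u0 : u ∉ center G := fun e => u2 (m1 ⟨u1, center_le_centralizer _ e⟩)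
    obtain ⟨Q', h3, h4⟩ := exists_sylow_le (K := C1[u]) (h p hp u (.of_mem hP.isPGroup u1) u0 ▸ hd)
    obtain ⟨k, -, rfl⟩ := hQ.exists_conj h3
    obtain ⟨a, ha, b, hb, rfl⟩ := exists_mul_of_coprime cop k
    rw [map_conj_mul, map_conj_eq_of_mem_normalizer (le_normalizer hb), le_c1_iff,
      centralizer_map_conj, mem_map_conj] at h4
    have := pg_conj_mem_of_mem_normalizer (m3 ha) (m1 (mem_inf.2 ⟨mul_mem (mul_mem (inv_mem ha) u1) ha, h4⟩))
    exact u2 (mem_of_mem_of_eq this (by group))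
  by_contra y0
  have i1 := h q hq y hy y0
  obtain ⟨r, hr, e⟩ := Nat.exists_prime_and_dvd
    (fun e => y0 (mem_center_iff_c1.2 (index_eq_one.1 e)))
  rcases hπ r hr (e.trans (index_dvd_card _)) with rfl | rfl
  · exact not_dvd_index_of_sylow hP (h2.trans (centralizer_le_singleton (h1 (mem_zpowers y)))) e
  · exact hd (i1 ▸ e)

/-- minimality of the centralizers of noncentral primary elements -/
def Mn (G : Type*) [Group G] : Prop :=
  ∀ p c q : ℕ, p.Prime → c.Prime → q.Prime → c ≠ p → q ≠ p → q ≠ c →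
    (∃ w ∈ center G, orderOf w = c) → ∀ u y : G, PE p u → u ∉ center G → PE q y → y ∈ C1[u] →
      C1[u] ≤ C1[y]

theorem Cs.lemmaA (h : Cs G n) (hm : Mn G) {c d : ℕ} (hc : c.Prime) (hd : d.Prime) (cd : c ≠ d)
    (wc : ∃ w ∈ center G, orderOf w = c) (wd : ∃ w ∈ center G, orderOf w = d) :
    (∃ p : ℕ, ∀ q : ℕ, q.Prime → q ≠ p → ∀ u : G, PE q u → u ∈ center G) ∨
      ((∀ q : ℕ, q.Prime → q ∣ Nat.card G → q = c ∨ q = d) ∧ c ∣ n ∧ d ∣ n) := by
  by_cases hπ : ∀ q : ℕ, q.Prime → q ∣ Nat.card G → q = c ∨ q = d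
  · have k : ∀ {c d : ℕ}, c.Prime → d.Prime → (∀ q : ℕ, q.Prime → q ∣ Nat.card G → q = c ∨ q = d) →
        ¬ d ∣ n → ∀ q : ℕ, q.Prime → q ≠ c → ∀ u : G, PE q u → u ∈ center G := by
      intro c d hc hd hπ e q hq qc u hu
      by_cases u1 : u = 1
      · exact u1 ▸ one_mem _
      exact h.a2 hc hd hπ e ((hπ q hq ((hu.dvd hq u1).trans (orderOf_dvd_natCard u))).resolve_left
        qc ▸ hu)
    by_cases e1 : c ∣ n
    · by_cases e2 : d ∣ n
      · exact .inr ⟨hπ, e1, e2⟩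
      · exact .inl ⟨c, k hc hd hπ e2⟩
    · exact .inl ⟨d, k hd hc (fun q a b => (hπ q a b).symm) e1⟩
  refine .inl (by_contra fun hn => ?_)
  push Not at hπ hn
  obtain ⟨r, hr, r0, rc, rd⟩ := hπ
  have pt : ∀ p : ℕ, p.Prime → ∀ u : G, PE p u → u ∉ center G → ∃ q : ℕ, q.Prime ∧ q ≠ p ∧
      ∃ y ∈ C1[u], PE q y ∧ y ∉ center G := fun p hp u hu u0 => by
    obtain ⟨q, hq, qp, y, y1, y0⟩ := hn p
    exact ⟨q, hq, qp, h.exists_pe hq y1 y0 (h p hp u hu u0)⟩
  have ab : ∀ E : Subgroup G, (∀ q : ℕ, q.Prime → ∀ a ∈ E, PE q a → E ≤ C1[a]) → E ≤ C[E] :=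
    fun E hE => le_of_forall_isSylowIn fun q hq _ => by
      obtain ⟨P, hP⟩ := exists_isSylowIn q E
      exact ⟨P, hP, fun a ha => le_c1_iff.1 (hE q hq a (hP.le ha) (.of_mem hP.isPGroup ha))⟩
  have key : ∀ p : ℕ, p.Prime → ∀ u : G, PE p u → u ∉ center G → C1[u] ≤ C[C1[u]] ∧
      ∃ q : ℕ, q.Prime ∧ q ≠ p ∧ ∃ y : G, PE q y ∧ C1[y] = C1[u] := by
    by_cases hR : ∃ x : G, PE r x ∧ x ∉ center G
    · obtain ⟨x, hx, x0⟩ := hR
      have m : ∀ u : G, PE r u → u ∉ center G → ∀ q : ℕ, q.Prime → q ≠ r → ∀ y, PE q y →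
          y ∈ C1[u] → C1[u] ≤ C1[y] := fun u hu u0 q hq qr y h1 h2 => by
        by_cases e : q = c
        · exact hm r d q hr hd hq rd.symm qr (e ▸ cd) wd u y hu u0 h1 h2
        · exact hm r c q hr hc hq rc.symm qr e wc u y hu u0 h1 h2
      have k : ∀ p : ℕ, p.Prime → p ≠ r → ∀ u : G, PE p u → u ∉ center G → C1[u] ≤ C[C1[u]] ∧
          ∃ q : ℕ, q.Prime ∧ q ≠ p ∧ ∃ y : G, PE q y ∧ C1[y] = C1[u] := fun p hp pr u hu u0 => by
        have m' : ∀ y, PE r y → y ∈ C1[u] → C1[u] ≤ C1[y] := fun y h1 h2 => by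
          by_cases e : c = p
          · exact hm p d r hp hd hr (e ▸ cd.symm) pr.symm rd wd u y hu u0 h1 h2
          · exact hm p c r hp hc hr e pr.symm rc wc u y hu u0 h1 h2
        obtain ⟨y, y1, y2, y0⟩ := h.exists_pe hr hx x0 (h p hp u hu u0)
        have e := h.eq hp hr hu y2 u0 y0 (m' y y2 y1)
        refine ⟨ab _ fun q hq a a1 a2 => ?_, r, hr, pr.symm, y, y2, e.symm⟩
        by_cases qr : q = r
        · exact m' a (qr ▸ a2) a1
        · exact e ▸ m y y2 y0 q hq qr a a2 (e ▸ a1)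
      intro p hp u hu u0
      by_cases pr : p = r
      · subst pr
        obtain ⟨q, hq, qp, y, y1, y2, y0⟩ := pt p hp u hu u0
        have e := h.eq hp hq hu y2 u0 y0 (m u hu u0 q hq qp y y2 y1)
        exact ⟨e ▸ (k q hq qp y y2 y0).1, q, hq, qp, y, y2, e.symm⟩
      · exact k p hp pr u hu u0
    · push Not at hR
      have := Fact.mk hr
      obtain ⟨w, hw⟩ := exists_prime_orderOf_dvd_card' r r0
      have m : ∀ p : ℕ, p.Prime → ∀ u : G, PE p u → u ∉ center G → ∀ q : ℕ, q.Prime → q ≠ p →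
          ∀ y, PE q y → y ∈ C1[u] → C1[u] ≤ C1[y] := fun p hp u hu u0 q hq qp y h1 h2 => by
        by_cases e : q = r
        · exact le_top.trans (mem_center_iff_c1.1 (hR y (e ▸ h1))).ge
        · exact hm p r q hp hr hq (fun e => u0 (hR u (e ▸ hu))) qp e
            ⟨w, hR w (.of_orderOf hw), hw⟩ u y hu u0 h1 h2
      intro p hp u hu u0
      obtain ⟨q, hq, qp, y, y1, y2, y0⟩ := pt p hp u hu u0
      have e := h.eq hp hq hu y2 u0 y0 (m p hp u hu u0 q hq qp y y2 y1)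
      refine ⟨ab _ fun s hs a a1 a2 => ?_, q, hq, qp, y, y2, e.symm⟩
      by_cases sp : s = p
      · exact e ▸ m q hq y y2 y0 s hs (sp ▸ qp.symm) a a2 (e ▸ a1)
      · exact m p hp u hu u0 s hs sp a a2 a1
  obtain ⟨q, hq, -, y, y1, y0⟩ := hn 0
  exact h.a1 (fun p hp u hu u0 => (key p hp u hu u0).2) hq y1 y0 fun p hp u hu u0 =>
    (key p hp u hu u0).1

end Cfsg.Lib.Ito
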