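import Cfsg.Agent.Lib.Ito.R4A
import Cfsg.Agent.Lib.Big.Walter

/-!
# Involution centralizers with one class size below them
-/

set_option autoImplicit false
set_option linter.unusedSectionVars false

namespace Cfsg.Lib.Ito
open Subgroup Cfsg Cfsg.Lib Cfsg.Lib.FT Cfsg.Lib.GW Cfsg.Lib.Big

variable {G : Type*} [Group G] [Finite G]

theorem ne_one_of_prime {x : G} {r : ℕ} (hr : r.Prime) (h : orderOf x = r) : x ≠ 1 := fun e =>
  hr.one_lt.ne (by rw [← h, e, orderOf_one])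

theorem exists_mem_orderOf {H : Subgroup G} {p : ℕ} (hp : p.Prime) (h : p ∣ Nat.card H) :
    ∃ x ∈ H, orderOf x = p := by
  have := Fact.mk hp
  obtain ⟨x, hx⟩ := exists_prime_orderOf_dvd_card' (G := H) p h
  exact ⟨x, x.2, (orderOf_coe x).trans hx⟩

theorem npc_of_odd_comm {H : Subgroup G} (h : ∀ a ∈ H, ∀ b ∈ H, Odd (orderOf a) →
    Odd (orderOf b) → a * b = b * a) : HasNormalPComplement 2 H := by
  let K : Subgroup G :=
    { carrier := {a | a ∈ H ∧ Odd (orderOf a)}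
      mul_mem' := fun {a b} ha hb => ⟨mul_mem ha.1 hb.1, (ha.2.mul hb.2).of_dvd_nat
        (Commute.orderOf_mul_dvd_mul_orderOf (h a ha.1 b hb.1 ha.2 hb.2))⟩
      one_mem' := ⟨one_mem _, by simp⟩
      inv_mem' := fun {a} ha => ⟨inv_mem ha.1, by rw [orderOf_inv]; exact ha.2⟩ }
  have hn : H ≤ N[K] := fun g hg => pg_mem_normalizer_of_conj_mem fun a ha =>
    ⟨mul_mem (mul_mem hg ha.1) (inv_mem hg), by rw [sm_orderOf_conj]; exact ha.2⟩
  obtain ⟨T, hT⟩ := exists_isSylowIn 2 H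
  refine hasNormalPComplement_of_le_sup (odd_of_forall (X := K) fun a ha e => by
    have := ha.2; rw [e] at this; exact absurd this (by decide)).not_two_dvd_nat hn hT.isPGroup
    (hT.le.trans hn) (le_of_forall_isSylowIn fun q hq _ => ?_)
  have := Fact.mk hq
  by_cases e : q = 2
  · exact ⟨T, e ▸ hT, le_sup_right⟩
  · obtain ⟨Q, hQ⟩ := exists_isSylowIn q H
    exact ⟨Q, hQ, le_sup_of_le_left fun a ha =>
      ⟨hQ.le ha, odd_orderOf (odd_of_isPGroup e hQ.isPGroup) ha⟩⟩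

theorem nilpotent_of_central {p : ℕ}
    (h : ∀ q : ℕ, q.Prime → q ≠ p → ∀ u : G, PE q u → u ∈ center G) : Group.IsNilpotent G := by
  refine isNilpotent_of_forall_sylow_normal fun q hq P => normalizer_eq_top_iff.1
    (top_le_iff.1 (le_of_forall_isSylowIn fun r hr _ => ?_))
  by_cases e : r = q
  · exact ⟨P, e ▸ .of_sylow_top P, le_normalizer⟩
  obtain ⟨R, hR⟩ := exists_isSylowIn r (⊤ : Subgroup G)
  refine ⟨R, hR, ?_⟩
  by_cases e' : r = p
  · exact le_trans (fun a _ => mem_centralizer_iff.2 fun b hb => (mem_center_iff.1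
      (h q hq.out (fun e2 => e (e'.trans e2.symm)) b (.of_mem P.isPGroup' hb)) a).symm)
      (centralizer_le_normalizer _)
  · exact le_trans (fun a ha => h r hr e' a (.of_mem hR.isPGroup ha)) (center_le_normalizer _)

/-- a 2-group whose elements of order at least 4 are conjugate into a proper subgroup -/
theorem elem_or_two {T C : Subgroup G} (hT : IsPGroup 2 T) (h : C < T)
    (hc : ∀ u ∈ T, u * u ≠ 1 → ∃ g ∈ T, g⁻¹ * u * g ∈ C) :
    (∀ u ∈ T, u * u = 1) ∨ C.relIndex T = 2 := by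
  have inv : ∀ M : Subgroup G, M ≤ T → (∀ u ∈ T, u ∉ M → u * u = 1) → ∀ b ∈ T, b ∉ M → ∀ a ∈ M,
      b * a * b⁻¹ = a⁻¹ := fun M hM h1 b hb b0 a ha => by
    have e := h1 _ (mul_mem hb (hM ha)) fun e => b0 ((mul_mem_cancel_right ha).1 e)
    rw [inv_eq_of_mul_eq_one_right (h1 b hb b0)]
    exact eq_inv_of_mul_eq_one_left (by rw [← e]; group)
  obtain ⟨M, m1, m2, m3⟩ := exists_not_conj hT h
  have k1 : ∀ u ∈ T, u ∉ M → u * u = 1 := fun u hu u0 => by_contra fun e => by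
    obtain ⟨g, hg, h1⟩ := hc u hu e
    exact u0 (mem_of_mem_of_eq (pg_conj_mem_of_mem_normalizer (m3 hg) (m1 h1)) (by group))
  obtain ⟨b, hb, b0⟩ := SetLike.exists_of_lt m2
  have k2 : ∀ u ∈ T, u ∉ C → u * u = 1 := fun u hu u0 => by_contra fun e => by
    obtain ⟨g, hg, h1⟩ := hc u hu e
    by_cases g0 : g ∈ M
    · have e1 := inv M m2.le k1 _ (mul_mem hb hg) (fun e => b0 ((mul_mem_cancel_right g0).1 e)) _ (m1 h1)
      have e2 := inv M m2.le k1 b⁻¹ (inv_mem hb) (by simpa) _ (inv_mem (m1 h1))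
      rw [← e1] at e2
      exact u0 (mem_of_mem_of_eq h1 (by rw [← inv_inv (g⁻¹ * u * g), ← e1, e2.symm]; group))
    · exact u0 (mem_of_mem_of_eq (inv_mem h1) (by rw [← inv M m2.le k1 g hg g0 _ (m1 h1)]; group))
  have b1 : b ∉ C := fun e => b0 (m1 e)
  refine or_iff_not_imp_right.2 fun hi u hu => by_contra fun e => hi ?_
  have u1 : u ∈ C := by_contra fun e' => e (k2 u hu e')
  refine index_eq_two_iff.2 ⟨⟨b, hb⟩, fun a => ?_⟩
  rw [mem_subgroupOf, mem_subgroupOf, coe_mul]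
  by_cases a0 : (a : G) ∈ C
  · exact .inr ⟨a0, fun e => b1 ((mul_mem_cancel_left a0).1 e)⟩
  refine .inl ⟨by_contra fun e' => e ?_, a0⟩
  have e1 := inv C h.le k2 _ (mul_mem a.2 hb) e' u u1
  have e2 := inv C h.le k2 _ hb b1 u u1
  have e3 := inv C h.le k2 _ a.2 a0 _ (inv_mem u1)
  rw [inv_inv, ← e2] at e3
  exact mul_eq_one_iff_eq_inv.2 (by rw [← e1]; nth_rewrite 1 [← e3]; group)

/-- centralizers properly contained in an involution centralizer have order `D` -/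
def P1 (G : Type*) [Group G] (D : ℕ) : Prop :=
  ∀ x t : G, x ≠ 1 → orderOf t = 2 → C1[x] < C1[t] → Nat.card C1[x] = D

/-- no element of odd order is central in `C(t)` -/
def NoOdd (t : G) : Prop := ∀ a : G, C1[t] ≤ C1[a] → Odd (orderOf a) → a = 1

variable {D : ℕ} {t : G}

theorem P1.min (h : P1 G D) (ht : orderOf t = 2) {x y : G} (x1 : x ≠ 1) (hx : C1[x] < C1[t])
    (hy : y ∈ C1[x]) (hc : (orderOf x).Coprime (orderOf y)) : C1[x] ≤ C1[y] := by
  have e := c1_mul_of_coprime (mem_c1.1 hy).symm hc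
  have h1 : C1[x * y] ≤ C1[x] := e ▸ inf_le_left
  rw [← eq_of_le_of_card_ge h1 ((h x t x1 ht hx).trans (h _ t (mul_ne_one_of_coprime x1 hc) ht
    (h1.trans_lt hx)).symm).le, e]
  exact inf_le_right

theorem lt_of_coprime {u c : G} (hc : C1[c] = C1[t]) (hu : u ∈ C1[t]) (u0 : ¬ C1[t] ≤ C1[u])
    (e : (orderOf u).Coprime (orderOf c)) :
    u * c ≠ 1 ∧ C1[u * c] = C1[u] ⊓ C1[t] ∧ C1[u * c] < C1[t] := by
  have h1 := c1_mul_of_coprime (mem_c1.1 (hc.ge hu)) e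
  rw [hc] at h1
  refine ⟨mul_ne_one_of_coprime (fun e => u0 fun g _ => mem_c1.2 (by simp [e])) e, h1, ?_⟩
  rw [h1]
  exact lt_of_le_of_ne inf_le_right fun e => u0 (e.ge.trans inf_le_left)

theorem P1.card_odd (h : P1 G D) (ht : orderOf t = 2) {x : G} (hx : x ∈ C1[t])
    (x0 : ¬ C1[t] ≤ C1[x]) (ho : Odd (orderOf x)) : Nat.card ↥(C1[x] ⊓ C1[t]) = D := by
  obtain ⟨h1, h2, h3⟩ := lt_of_coprime rfl hx x0 (ht ▸ Nat.coprime_two_right.2 ho)
  exact h2 ▸ h _ t h1 ht h3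

theorem P1.rel (h : P1 G D) (ht : orderOf t = 2) {x : G} (hx : x ∈ C1[t])
    (x0 : ¬ C1[t] ≤ C1[x]) (ho : Odd (orderOf x)) : C1[x].relIndex C1[t] * D = Nat.card C1[t] := by
  rw [← h.card_odd ht hx x0 ho, Cfsg.Lib.relIndex_mul_card_inf]

theorem P1.two_pow (h : P1 G D) (ht : orderOf t = 2) (hn : NoOdd t) {x : G} (hx : x ∈ C1[t])
    (x1 : x ≠ 1) (ho : Odd (orderOf x)) : ∃ k, C1[x].relIndex C1[t] = 2 ^ k := by
  have h1 := h.rel ht hx (fun e => x1 (hn x e ho)) ho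
  have h0 : D ≠ 0 := by rintro rfl; exact Nat.card_pos.ne h1
  refine ⟨_, Nat.eq_prime_pow_of_unique_prime_dvd (fun e => Nat.card_pos.ne (by rw [← h1, e, zero_mul]))
    fun {q} hq hd => by_contra fun e => ?_⟩
  have := Fact.mk hq
  obtain ⟨Q, hQ⟩ := exists_isSylowIn q C1[t]
  obtain ⟨z, z1, z2, z3⟩ := pg_exists_fixed_of_order_p hQ.isPGroup hQ.isPGroup le_normalizer
    (hQ.ne_bot (h1 ▸ hd.mul_right D))
  have z4 : Odd (orderOf z) := z2 ▸ hq.odd_of_ne_two e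
  have h2 := h.rel ht (hQ.le z1) (fun e => ne_one_of_prime hq z2 (hn z e z4)) z4
  rw [Nat.eq_of_mul_eq_mul_right (Nat.pos_of_ne_zero h0) (h1.trans h2.symm)] at hd
  exact hQ.not_dvd_relIndex (hd.trans (relIndex_dvd_of_le_left _ (le_c1_iff.2 z3)))

theorem exists_odd_prime {H : Subgroup G} (hp : ¬ HasNormalPComplement 2 H) :
    ∃ p : ℕ, p.Prime ∧ p ≠ 2 ∧ p ∣ Nat.card H := by
  by_contra hc
  push Not at hc
  exact hp (hasNormalPComplement_of_isPGroup (IsPGroup.of_card (Nat.eq_prime_pow_of_unique_prime_dvd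
    Nat.card_pos.ne' fun {q} hq hd => by_contra fun e => hc q hq e hd)))

theorem P1.not_dvd (h : P1 G D) (ht : orderOf t = 2) (hn : NoOdd t)
    (hp : ¬ HasNormalPComplement 2 C1[t]) {T : Subgroup G} (hT : IsSylowIn 2 T C1[t]) :
    ¬ Nat.card T ∣ 2 * D := fun hd => hp (npc_of_odd_comm fun a ha b hb a0 b0 => by
  by_cases b1 : b = 1
  · simp [b1]
  have h1 := h.rel ht hb (fun e => b1 (hn b e b0)) b0
  obtain ⟨k, hk⟩ := h.two_pow ht hn hb b1 b0
  have h0 : 0 < D := Nat.pos_of_ne_zero (by rintro rfl; exact Nat.card_pos.ne h1)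
  have h2 : 2 ^ k ∣ 2 * T.relIndex C1[t] := Nat.dvd_of_mul_dvd_mul_right h0 (by
    rw [← hk, h1, ← Cfsg.Lib.relIndex_mul_card hT.le, mul_right_comm, mul_comm]
    exact Nat.mul_dvd_mul_right hd _)
  have h3 : C1[b].relIndex C1[t] ∣ 2 := hk ▸ ((Nat.coprime_two_left.2
    (Nat.odd_iff.2 (Nat.two_dvd_ne_zero.1 hT.not_dvd_relIndex))).pow_left k).dvd_of_dvd_mul_right h2
  refine mem_c1.1 (Cfsg.Lib.mem_of_pow_mem_of_coprime (n := 2) (Nat.coprime_two_left.2 a0) ?_)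
  rcases (Nat.dvd_prime Nat.prime_two).1 h3 with e | e
  · exact relIndex_eq_one.1 e (pow_mem ha 2)
  · exact sq_mem_of_index_two e ⟨a, ha⟩)

theorem P1.rigid (h : P1 G D) (ht : orderOf t = 2) {u : G} (hu : u ∈ C1[t]) (h2 : PE 2 u)
    (u1 : u * u ≠ 1) (u0 : ¬ C1[t] ≤ C1[u]) : ∃ v : G, Nat.card C1[v] = D ∧
      ∀ y ∈ C1[v], Odd (orderOf y) → y ∈ C1[u] ⊓ C1[t] := by
  have hc : Commute u t := mem_c1.1 hu
  have t2 := BSW.mul_self_of_orderOf_two ht
  have a1 : u ≠ 1 := fun e => u1 (by rw [e, mul_one])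
  have a2 : u * t ≠ 1 := fun e => u1 (by
    rw [eq_inv_of_mul_eq_one_left e, ← mul_inv_rev, t2, inv_one])
  obtain ⟨m, hm⟩ := exists_pow_prime (pow_two u ▸ u1)
  have hj : orderOf ((u ^ 2) ^ m) = 2 := ((Nat.prime_dvd_prime_iff_eq Nat.prime_two hm).1
    (PE.dvd (h2.imp fun k hk => by rw [← pow_mul u, pow_right_comm, hk, one_pow]) Nat.prime_two
      (ne_one_of_prime hm rfl))).symm
  have e1 := (c1_le_pow u 2).trans (c1_le_pow _ m)
  have e2 := (c1_le_pow (u * t) 2).trans (c1_le_pow _ m)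
  rw [hc.mul_pow, pow_two t, t2, mul_one] at e2
  have k : ∀ {v s : G}, v ≠ 1 → PE 2 v → orderOf s = 2 → C1[v] < C1[s] → t ∈ C1[v] → u ∈ C1[v] →
      ∃ v : G, Nat.card C1[v] = D ∧ ∀ y ∈ C1[v], Odd (orderOf y) → y ∈ C1[u] ⊓ C1[t] :=
    fun {v s} v1 v2 hs hv h3 h4 => ⟨v, h v s v1 hs hv, fun y hy ho => by
      have := h.min hs v1 hv hy (v2.coprime (Nat.coprime_two_left.2 ho))
      exact ⟨mem_c1_symm (this h4), mem_c1_symm (this h3)⟩⟩
  rcases e1.eq_or_lt with e1 | e1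
  · rcases e2.eq_or_lt with e2 | e2
    · refine k a1 h2 ht (lt_of_le_of_ne (fun g hg => ?_) fun e => u0 e.ge) (mem_c1_symm hu)
        (self_mem_c1 u)
      simpa using mem_c1_symm (mul_mem (inv_mem (mem_c1_symm hg)) (mem_c1_symm (e2.ge (e1.le hg))))
    · exact k a2 (h2.mul (.of_orderOf ht) hc) hj e2 (mem_c1.2 (hc.symm.mul_right (.refl t)))
        (mem_c1.2 ((Commute.refl u).mul_right hc))
  · exact k a1 h2 hj e1 (mem_c1_symm hu) (self_mem_c1 u)

theorem P1.elem (h : P1 G D) (ht : orderOf t = 2) (hn : NoOdd t)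
    (hp : ¬ HasNormalPComplement 2 C1[t]) {T : Subgroup G} (hT : IsSylowIn 2 T C1[t]) :
    ∀ u ∈ T, u * u = 1 := by
  obtain ⟨p, hq, p2, hd⟩ := exists_odd_prime hp
  have := Fact.mk hq
  obtain ⟨P, hP⟩ := exists_isSylowIn p C1[t]
  obtain ⟨x, x1, x2, x3⟩ := pg_exists_fixed_of_order_p hP.isPGroup hP.isPGroup le_normalizer
    (hP.ne_bot hd)
  have x4 : Odd (orderOf x) := x2 ▸ hq.odd_of_ne_two p2
  have x5 := h.card_odd ht (hP.le x1) (fun e => ne_one_of_prime hq x2 (hn x e x4)) x4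
  obtain ⟨k, hk⟩ := h.two_pow ht hn (hP.le x1) (ne_one_of_prime hq x2) x4
  have x6 : Nat.card ↥(T ⊓ C1[x]) ∣ D := x5 ▸ card_dvd_of_le (le_inf inf_le_right (inf_le_left.trans hT.le))
  refine (elem_or_two (C := T ⊓ C1[x]) hT.isPGroup (lt_of_le_of_ne inf_le_left fun e =>
    h.not_dvd ht hn hp hT ((e ▸ x6).mul_left 2)) fun u hu u1 => ?_).resolve_right fun e =>
      h.not_dvd ht hn hp hT ?_
  · by_cases u0 : C1[t] ≤ C1[u]
    · exact ⟨1, one_mem _, by simpa using ⟨hu, mem_c1_symm (u0 (hP.le x1))⟩⟩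
    obtain ⟨v, v1, v2⟩ := h.rigid ht (hT.le hu) (.of_mem hT.isPGroup hu) u1 u0
    obtain ⟨R, hR⟩ := exists_isSylowIn p C1[v]
    have r1 : R ≤ C1[u] ⊓ C1[t] := fun y hy =>
      v2 y (hR.le hy) (odd_orderOf (odd_of_isPGroup p2 hR.isPGroup) hy)
    obtain ⟨g, hg, rfl⟩ := hP.exists_conj (hP.of_card_ge hR.isPGroup (r1.trans inf_le_right) (by
      rw [hR.card_eq, (hP.mono (le_inf (le_c1_iff.2 x3) hP.le) inf_le_right).card_eq, x5, v1]))
    obtain ⟨a, ha, b, hb, e⟩ := exists_mul_of_coprime (H := T.subgroupOf C1[t])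
      (K := C1[x].subgroupOf C1[t]) (by
        change (T.relIndex _).Coprime (C1[x].relIndex _)
        rw [hk]
        exact (Nat.coprime_two_right.2 (Nat.odd_iff.2
          (Nat.two_dvd_ne_zero.1 hT.not_dvd_relIndex))).pow_right k) ⟨g, hg⟩
    obtain rfl : (a : G) * b = g := congrArg Subtype.val e
    have r2 := mem_c1_symm (r1 (mem_map_of_mem _ x1)).1
    change u ∈ C1[(a : G) * b * x * ((a : G) * b)⁻¹] at r2
    rw [c1_conj, map_conj_mul, map_conj_eq_of_mem_normalizer (le_normalizer (mem_subgroupOf.1 hb)),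
      mem_map_conj] at r2
    have ha' := mem_subgroupOf.1 ha
    exact ⟨a, ha', mem_inf.2 ⟨mul_mem (mul_mem (inv_mem ha') hu) ha', r2⟩⟩
  · rw [← Cfsg.Lib.relIndex_mul_card (inf_le_left : T ⊓ C1[x] ≤ T), e]
    exact Nat.mul_dvd_mul_left 2 x6

theorem comm_of_sq {T : Subgroup G} (h : ∀ u ∈ T, u * u = 1) : IsMulCommutative T :=
  isMulCommutative_of_forall fun a ha b hb => by
    rw [eq_inv_of_mul_eq_one_left (h _ (mul_mem ha hb)), mul_inv_rev,
      inv_eq_of_mul_eq_one_right (h a ha), inv_eq_of_mul_eq_one_right (h b hb)]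

theorem P1.sylow (h : P1 G D) (ht : orderOf t = 2) (hn : NoOdd t)
    (hp : ¬ HasNormalPComplement 2 C1[t]) {T : Subgroup G} (hT : IsSylowIn 2 T C1[t]) :
    IsSylowIn 2 T ⊤ := by
  obtain ⟨S, hS, h1⟩ := exists_isSylowIn_ge hT.isPGroup le_top
  refine h1.eq_or_lt.elim (fun e => e ▸ hS) fun h1 => False.elim ?_
  have T1 := h.elem ht hn hp hT
  have T2 := comm_of_sq T1
  have t2 := BSW.mul_self_of_orderOf_two ht
  have tT : t ∈ T := hT.le_of_normalizes (isPGroup_zpowers_two t2) (zpowers_le.2 (self_mem_c1 t))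
    ((hT.le.trans (centralizer_zpowers t).ge).trans (centralizer_le_normalizer _)) (mem_zpowers t)
  have h2 : IsPGroup 2 ↥(S ⊓ N[T]) := hS.isPGroup.to_inf_left
  obtain ⟨g, g1, g2, g3, -⟩ := pg_exists_fixed_mod h2 h2 le_normalizer
    (pg_lt_inf_normalizer hS.isPGroup h1) inf_le_right inf_le_right
  have g4 : g ∉ C1[t] := fun e => g2 (hT.le_of_le_normalizer (h2.to_le (zpowers_le.2 g1))
    (zpowers_le.2 e) (zpowers_le.2 g1.2) (mem_zpowers g))
  obtain ⟨x, x1, x2, x3, x4⟩ : ∃ x ∈ S, x ∉ C1[t] ∧ x * x ∈ T ∧ x * x ≠ 1 := by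
    rw [pow_two] at g3
    by_cases e : g * g = 1
    · refine ⟨g * t, mul_mem g1.1 (h1.le tT), fun e => g4 ((mul_mem_cancel_right (self_mem_c1 t)).1 e),
        mem_of_mem_of_eq (mul_mem (mul_mem (pg_conj_mem_of_mem_normalizer g1.2 tT) g3) tT) (by group),
        fun e' => g4 (mem_c1.2 ?_)⟩
      rw [eq_inv_of_mul_eq_one_left e', mul_inv_rev, inv_eq_of_mul_eq_one_right e,
        inv_eq_of_mul_eq_one_right t2]
    · exact ⟨g, g1.1, g4, g3, e⟩
  have u1 : orderOf (x * x) = 2 := h9_orderOf_eq_two_iff.2 ⟨x4, T1 _ x3⟩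
  have u2 : T ≤ C1[x * x] := le_centralizer_singleton_of_comm T2 x3
  have u3 : C1[x] ≤ C1[x * x] := pow_two x ▸ c1_le_pow x 2
  have u4 := h x _ (fun e => x2 (e ▸ one_mem _)) u1
    (lt_of_le_of_ne u3 fun e => x2 (mem_c1_symm (e.ge (u2 tT))))
  by_cases hu : NoOdd (x * x)
  swap
  · obtain ⟨a, a1, a2, a3⟩ : ∃ a : G, C1[x * x] ≤ C1[a] ∧ Odd (orderOf a) ∧ a ≠ 1 := by
      simpa [NoOdd] using hu
    refine h.not_dvd ht hn hp hT (Dvd.dvd.mul_left ?_ 2)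
    rw [← h.card_odd ht (mem_c1_symm (a1 (u2 tT))) (fun e => a3 (hn a e a2)) a2]
    exact card_dvd_of_le (le_inf (u2.trans a1) hT.le)
  have u5 : HasNormalPComplement 2 C1[x * x] := by_contra fun e => by
    obtain ⟨R, hR, r1⟩ := exists_isSylowIn_ge (hS.isPGroup.to_le (zpowers_le.2 x1))
      (zpowers_le.2 (u3 (self_mem_c1 x)))
    exact x4 (h.elem u1 hu e hR x (r1 (mem_zpowers x)))
  obtain ⟨p, hq, p2, hd⟩ := exists_odd_prime hp
  obtain ⟨y, y1, y2⟩ := exists_mem_orderOf hq hd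
  have y3 : Odd (orderOf y) := y2 ▸ hq.odd_of_ne_two p2
  obtain ⟨z, z1, z2⟩ := exists_mem_orderOf (H := C1[x]) hq (by
    rw [u4, ← h.card_odd ht y1 (fun e => ne_one_of_prime hq y2 (hn y e y3)) y3, ← y2]
    exact orderOf_dvd_natCard _ (mem_inf.2 ⟨self_mem_c1 y, y1⟩))
  have z3 : z ∈ O[C1[x * x]] := le_piCoreOf_of_hasNormalPComplement u5 (zpowers_le.2 (u3 z1))
    (by rw [Nat.card_zpowers, z2]; exact (hq.odd_of_ne_two p2).not_two_dvd_nat) (mem_zpowers z)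
  refine ne_one_of_prime hq z2 (mem_bot.1 ((CoprimeAct.of_isPGroup hT.isPGroup
    (odd_oc _).not_two_dvd_nat (u2.trans (le_normalizer_piCoreOf _ _))).le_of_hyperplane
    ⟨T2, fun a ha => (pow_two a).trans (T1 a ha)⟩ (fun e => BSW.ne_one_of_orderOf_two ht
      (mem_bot.1 (e ▸ tT))) (fun B B1 B2 a ha => mem_bot.2 (by_contra fun a1 => ?_)) z3))
  have a2 := odd_orderOf (odd_oc _) ha.1
  refine h.not_dvd ht hn hp hT ?_
  rw [← h.card_odd u1 (oc_le _ ha.1) (fun e => a1 (hu a e a2)) a2,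
    ← Cfsg.Lib.relIndex_mul_card B1, B2]
  exact Nat.mul_dvd_mul_left 2 (card_dvd_of_le (le_inf (le_c1_iff.2 ha.2) (B1.trans u2)))

theorem P1.lemmaB [IsSimpleGroup G] (hG : ¬ IsMulCommutative G) (h : P1 G D) (ht : orderOf t = 2)
    (hn : NoOdd t) (hp : ¬ HasNormalPComplement 2 C1[t]) : ∃ q, 3 < q ∧ IsoPSL2 G q := by
  obtain ⟨T, hT⟩ := exists_isSylowIn 2 C1[t]
  obtain ⟨S, rfl⟩ := (h.sylow ht hn hp hT).exists_sylow_top
  rcases walter hG S (comm_of_sq (h.elem ht hn hp hT)) with ⟨q, -, h1, h2⟩ | ⟨n, h1, h2⟩ | ⟨-, -, h1⟩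
  · exact ⟨q, by omega, h2⟩
  · exact ⟨_, lt_of_lt_of_le (by norm_num) (Nat.pow_le_pow_right two_pos h1), h2⟩
  obtain ⟨-, E, L, e1, e2, e3, e4, -, e5⟩ := h1 t ht
  have c : ¬ IsMulCommutative L := fun e => (nontrivial_iff_ne_bot L).1 inferInstance
    (eq_bot_iff.2 (e5 ▸ le_inf e2 fun a ha => mem_centralizer_iff.2 fun b hb =>
      comm_of_isMulCommutative e hb ha))
  obtain ⟨p, hq, p2, hd⟩ := exists_odd_prime (H := L) (sm_not_hasNormalPComplement c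
    (two_dvd_card_of_simple c))
  obtain ⟨x, x1, x2⟩ := exists_mem_orderOf hq hd
  have l1 := e2.trans e1.2.1
  obtain ⟨k, hk⟩ := h.two_pow ht hn (l1 x1) (ne_one_of_prime hq x2) (x2 ▸ hq.odd_of_ne_two p2)
  have l2 : C1[t] ≤ N[L] := e1.2.2.2.2.ge.trans (sup_le ((zpowers_le.2 (le_c1_iff.1 l1)).trans
    (centralizer_le_normalizer _)) e3)
  have l3 := relIndex_dvd_relIndex_of_le_normalizer (H := C1[x] ⊓ C1[t]) inf_le_right l1
    (inf_le_right.trans l2)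
  rw [inf_relIndex_right, hk, ← inf_relIndex_right, inf_assoc, inf_eq_right.2 l1,
    inf_relIndex_right] at l3
  obtain ⟨j, -, hj⟩ := (Nat.dvd_prime_pow Nat.prime_two).1 l3
  refine absurd ?_ (index_ne_pow c (x := ⟨x, x1⟩) (k := j)
    (fun e => ne_one_of_prime hq x2 (congrArg Subtype.val e)) Nat.prime_two)
  rw [← hj, relIndex]
  congr 1; ext y
  simp [mem_subgroupOf, mem_centralizer_singleton_iff, Subtype.ext_iff]

end Cfsg.Lib.Ito
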