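import Cfsg.Agent.Lib.Ito.Basic
import Cfsg.Agent.Lib.ZStar.Main

/-!
# Simple groups with three nontrivial conjugacy class sizes
-/

set_option autoImplicit false

namespace Cfsg.Lib.Ito
open Subgroup Cfsg Cfsg.Lib Cfsg.Lib.FT Cfsg.Lib.GW Cfsg.Lib.Big

variable {G : Type*} [Group G] [Finite G] [IsSimpleGroup G] (hG : ¬ IsMulCommutative G)
include hG

/-- an element whose centralizer has a self-centralizing abelian complement is isolated -/
theorem isolated_of_sc {K : Subgroup G} (hK : BSW.SC K) {y : G} (hy : y ≠ 1)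
    (hi : (C1[y]).index = Nat.card K) (hd : ∀ g, C1[g * y * g⁻¹] ⊓ K = ⊥) : IsIsolated y := by
  classical
  haveI := Fintype.ofFinite G
  haveI := Fintype.ofFinite (G ⧸ C1[y])
  have fx : ∀ s g : G, s • (g : G ⧸ C1[y]) = g ↔ s ∈ C1[g * y * g⁻¹] := by
    intro s g
    rw [MulAction.Quotient.smul_mk, eq_comm, QuotientGroup.eq, mem_c1, mem_c1, smul_eq_mul]
    constructor
    · intro e
      calc s * (g * y * g⁻¹) = g * (g⁻¹ * (s * g) * y) * g⁻¹ := by group
        _ = _ := by rw [e]; group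
    · intro e
      calc g⁻¹ * (s * g) * y = g⁻¹ * (s * (g * y * g⁻¹)) * g := by group
        _ = _ := by rw [e]; group
  have hreg : ∀ x z : G ⧸ C1[y], ∃! k : K, (k : G) • x = z := by
    intro x
    induction x using QuotientGroup.induction_on with
    | H g =>
    have f1 : Function.Injective fun k : K => (k : G) • (g : G ⧸ C1[y]) := by
      intro k l e
      have e' : ((l⁻¹ * k : K) : G) • (g : G ⧸ C1[y]) = g := by
        rw [coe_mul, mul_smul, show (k : G) • (g : G ⧸ C1[y]) = _ from e, coe_inv, inv_smul_smul]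
      have : ((l⁻¹ * k : K) : G) ∈ (⊥ : Subgroup G) := hd g ▸ ⟨(fx _ _).1 e', (l⁻¹ * k).2⟩
      exact (inv_mul_eq_one.1 (Subtype.ext (mem_bot.1 this))).symm
    exact (Function.bijective_iff_existsUnique _).1
      ((Nat.bijective_iff_injective_and_card _).2 ⟨f1, hi.symm⟩)
  intro g hg
  have := fix_of_regSC hK hreg ((not_mem_center_iff hG).2 hy)
    (by rw [← Nat.card_eq_fintype_card]; rfl) ((fx y g).2 (mem_c1.2 hg.eq))
    ((fx y 1).2 (mem_c1.2 (by simp)))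
  rw [QuotientGroup.eq, mul_one] at this
  exact conj_eq_of_c1 (by simpa using inv_mem this)

theorem rank3_of_lt {a b c : ℕ}
    (hT : ∀ x : G, x ≠ 1 → (C1[x]).index = a ∨ (C1[x]).index = b ∨ (C1[x]).index = c)
    (hab : b ∣ a) (hne : a ≠ b) {y₀ : G} (y₁ : y₀ ≠ 1) (y₂ : (C1[y₀]).index = b) :
    ∃ n, 2 ≤ n ∧ IsoPSL2 G (2 ^ n) := by
  have pc : ∀ p, p.Prime → p ∣ b → ∃ w : G, orderOf w = p ∧ (C1[w]).index = c ∧ ¬ p ∣ c := by
    intro p hp hb
    obtain ⟨w, h1, h2⟩ := exists_pcentral hp (hb.trans (y₂ ▸ index_dvd_card _))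
    have w1 : w ≠ 1 := fun e => hp.one_lt.ne (by rw [← h1, e, orderOf_one])
    rcases hT w w1 with e | e | e
    · exact absurd (e ▸ hb.trans hab) h2
    · exact absurd (e ▸ hb) h2
    · exact ⟨w, h1, e, e ▸ h2⟩
  have cop : b.Coprime c := Nat.coprime_of_dvd fun p hp hb => by
    obtain ⟨-, -, -, h⟩ := pc p hp hb; exact h
  have b1 : b ≠ 1 := y₂ ▸ index_ne_one hG y₁
  obtain ⟨p, hp, hpb⟩ := Nat.exists_prime_and_dvd b1
  obtain ⟨w, w₀, w₂, -⟩ := pc p hp hpb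
  have ne1 : ∀ {x : G} {r : ℕ}, r.Prime → orderOf x = r → x ≠ 1 := fun hr h e =>
    hr.one_lt.ne (by rw [← h, e, orderOf_one])
  have w₁ := ne1 hp w₀
  have c1 : c ≠ 1 := w₂ ▸ index_ne_one hG w₁
  have b0 : b ≠ 0 := y₂ ▸ index_ne_zero_of_finite
  have bc : ¬ b ∣ c := fun e => b1 (cop.eq_one_of_dvd e)
  have cb : ¬ c ∣ b := fun e => c1 (cop.symm.eq_one_of_dvd e)
  have ab : ¬ a ∣ b := fun e => hne (Nat.dvd_antisymm e hab)
  have ac : ¬ a ∣ c := fun e => bc (hab.trans e)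
  have nc : ∀ {y v : G}, y ≠ 1 → v ≠ 1 → (C1[y]).index = b → (C1[v]).index = c → v ∉ C1[y] :=
    fun h1 h2 h3 h4 => not_comm_of_coprime hG h1 h2 (by rw [h3, h4]; exact cop)
  -- minimal type
  have lemM : ∀ {u v : G}, u ≠ 1 → (C1[u]).index = a → v ∈ C1[u] →
      (orderOf u).Coprime (orderOf v) → C1[u] ≤ C1[v] := by
    intro u v u1 ua hv hc
    have e := c1_mul_of_coprime (mem_c1.1 hv).symm hc
    have h1 : C1[u * v] ≤ C1[u] := e ▸ inf_le_left
    have h2 := index_dvd_of_le h1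
    rw [ua] at h2
    rcases hT _ (mul_ne_one_of_coprime u1 hc) with h3 | h3 | h3
    · rw [← eq_of_le_of_index h1 (h3.trans ua.symm), e]; exact inf_le_right
    · exact absurd (h3 ▸ h2) ab
    · exact absurd (h3 ▸ h2) ac
  have card : Nat.card G = b * c := by
    have h1 : ∀ v : G, (C1[v]).index = c → b * c * Nat.card ↥(C1[y₀] ⊓ C1[v]) = Nat.card G :=
      fun v hv => by
        rw [← (C1[y₀] ⊓ C1[v]).index_mul_card, index_inf_of_coprime (by rw [y₂, hv]; exact cop),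
          y₂, hv]
    by_contra hc
    obtain ⟨r, hr, hd⟩ := Nat.exists_prime_and_dvd (n := Nat.card ↥(C1[y₀] ⊓ C1[w]))
      fun e => hc (by rw [← h1 w w₂, e, mul_one])
    obtain ⟨q, hq, hqr, hqb⟩ := exists_prime_ne hG y₁ hr
    obtain ⟨v, v₀, v₂, -⟩ := pc q hq (y₂ ▸ hqb)
    have h2 : Nat.card ↥(C1[y₀] ⊓ C1[v]) = Nat.card ↥(C1[y₀] ⊓ C1[w]) :=
      Nat.eq_of_mul_eq_mul_left (Nat.pos_of_ne_zero (mul_ne_zero b0
        (w₂ ▸ index_ne_zero_of_finite))) ((h1 v v₂).trans (h1 w w₂).symm)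
    haveI := Fact.mk hr
    obtain ⟨⟨u, hu⟩, u₀⟩ := exists_prime_orderOf_dvd_card' (G := ↥(C1[y₀] ⊓ C1[v])) r (h2 ▸ hd)
    have u₀ : orderOf u = r := (orderOf_coe (⟨u, hu⟩ : ↥(C1[y₀] ⊓ C1[v]))).trans u₀
    have u₁ := ne1 hr u₀
    rcases hT u u₁ with e | e | e
    · exact nc y₁ (ne1 hq v₀) y₂ v₂ (mem_c1_symm (lemM u₁ e (mem_c1_symm hu.2) (by
        rw [u₀, v₀]; exact (Nat.coprime_primes hr hq).2 hqr.symm) (mem_c1_symm hu.1)))
    · exact nc u₁ (ne1 hq v₀) e v₂ (mem_c1_symm hu.2)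
    · exact nc y₁ u₁ y₂ e hu.1
  have cardb : ∀ {v : G}, (C1[v]).index = c → Nat.card C1[v] = b := fun {v} hv => by
    have := (C1[v]).index_mul_card
    rw [hv, card, mul_comm b] at this
    exact Nat.eq_of_mul_eq_mul_left (Nat.pos_of_ne_zero (hv ▸ index_ne_zero_of_finite)) this
  have cardc : ∀ {v : G}, (C1[v]).index = b → Nat.card C1[v] = c := fun {v} hv => by
    have := (C1[v]).index_mul_card
    rw [hv, card] at this
    exact Nat.eq_of_mul_eq_mul_left (Nat.pos_of_ne_zero b0) this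
  have typ : ∀ u ∈ C1[w], u ≠ 1 → (C1[u]).index = c := by
    intro u hu u₁
    rcases hT u u₁ with e | e | e
    · refine absurd (orderOf_eq_one_iff.1 (Nat.eq_one_of_dvd_coprimes cop
        (cardb w₂ ▸ orderOf_dvd_natCard _ hu) ?_)) u₁
      refine (orderOf_dvd_natCard _ (self_mem_c1 u)).trans ?_
      have := (C1[u]).index_mul_card
      obtain ⟨d, hd⟩ := hab
      rw [e, card, hd, mul_assoc] at this
      exact Dvd.intro_left d (Nat.eq_of_mul_eq_mul_left (Nat.pos_of_ne_zero b0) this)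
    · exact absurd (mem_c1_symm hu) (nc u₁ w₁ e w₂)
    · exact e
  have eqc : ∀ u ∈ C1[w], ∀ v ∈ C1[w], u ≠ 1 → v ≠ 1 → v ∈ C1[u] →
      (orderOf u).Coprime (orderOf v) → C1[u] = C1[v] := by
    intro u hu v hv u₁ v₁ h hc
    have e := c1_mul_of_coprime (mem_c1.1 h).symm hc
    have h1 := typ _ (mul_mem hu hv) (mul_ne_one_of_coprime u₁ hc)
    rw [← eq_of_le_of_index (e ▸ inf_le_left : C1[u * v] ≤ C1[u]) (h1.trans (typ u hu u₁).symm),
      eq_of_le_of_index (e ▸ inf_le_right : C1[u * v] ≤ C1[v]) (h1.trans (typ v hv v₁).symm)]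
  have hK : BSW.SC C1[w] := by
    obtain ⟨q, hq, hqp, hqb⟩ := exists_prime_ne hG y₁ hp
    haveI := Fact.mk hq
    obtain ⟨⟨v, hv⟩, v₀⟩ := exists_prime_orderOf_dvd_card' (G := C1[w]) q
      (by rw [cardb w₂, ← y₂]; exact hqb)
    have v₀ : orderOf v = q := (orderOf_coe (⟨v, hv⟩ : C1[w])).trans v₀
    have v₂ := eqc w (self_mem_c1 w) v hv w₁ (ne1 hq v₀) hv (by
      rw [w₀, v₀]; exact (Nat.coprime_primes hp hq).2 hqp.symm)
    intro u hu u₁
    obtain ⟨n, hn⟩ := exists_pow_prime u₁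
    have h1 := pow_mem hu n
    rw [eq_of_le_of_index (c1_le_pow u n) ((typ u hu u₁).trans (typ _ h1 (ne1 hn rfl)).symm)]
    by_cases e : orderOf (u ^ n) = p
    · rw [v₂]
      exact (eqc v hv _ h1 (ne1 hq v₀) (ne1 hn rfl) (v₂ ▸ h1) (by
        rw [v₀, e]; exact (Nat.coprime_primes hq hp).2 hqp)).symm
    · exact (eqc w (self_mem_c1 w) _ h1 w₁ (ne1 hn rfl) h1 (by
        rw [w₀]; exact (Nat.coprime_primes hp hn).2 (Ne.symm e))).symm
  by_cases hb : 2 ∣ b
  · exact psl2_of_sc hG hK (by rwa [cardb w₂])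
  exfalso
  have iso : ∀ y : G, y ≠ 1 → (C1[y]).index = b → IsIsolated y := fun y h1 h2 =>
    isolated_of_sc hG hK h1 (by rw [h2, cardb w₂]) fun g => by
      exact eq_bot_of_card_eq _ (Nat.eq_one_of_dvd_coprimes cop
        (cardb w₂ ▸ card_dvd_of_le inf_le_right)
        (cardc ((index_c1_conj g y).trans h2) ▸ card_dvd_of_le inf_le_left))
  have he := two_dvd_card_of_simple hG
  have inv : ∀ t : G, orderOf t = 2 → (C1[t]).index = a := by
    intro t ht
    have t₁ := ne1 Nat.prime_two ht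
    rcases hT t t₁ with e | e | e
    · exact e
    · exact absurd (zstar_center (Suz.oddCore_eq_bot_of_simple (even_iff_two_dvd.2 he))
        (ht ▸ pow_orderOf_eq_one t) (iso t t₁ e)) ((not_mem_center_iff hG).2 t₁)
    · exact absurd (by rw [← cardb e, ← ht]; exact orderOf_dvd_natCard _ (self_mem_c1 t)) hb
  obtain ⟨n, hn⟩ := exists_pow_prime y₁
  obtain ⟨y, hy⟩ : ∃ y, y = y₀ ^ n := ⟨_, rfl⟩
  rw [← hy] at hn
  have y₃ := ne1 hn rfl
  have y₄ : (C1[y]).index = b := by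
    have h1 := index_dvd_of_le (c1_le_pow y₀ n)
    rw [← hy, y₂] at h1
    rcases hT y y₃ with e | e | e
    · exact absurd (e ▸ h1) ab
    · exact e
    · exact absurd (e ▸ h1) cb
  have y₅ : orderOf y ≠ 2 := fun e => hne ((inv y e).symm.trans y₄)
  refine y₃ (eq_one_of_se hG (M := C1[y]) ⟨fun e => b1 (by rw [← y₄, e, index_top]), ?_,
    fun g hg => odd_of_forall fun t ht h2 => hg ?_⟩ (self_mem_c1 y) le_rfl (hn.odd_of_ne_two y₅))
  · rw [cardc y₄, even_iff_two_dvd]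
    exact (Nat.prime_two.dvd_mul.1 (card ▸ he)).resolve_left hb
  · have h3 : t ∈ C1[g * y * g⁻¹] := by rw [c1_conj]; exact ht.2
    have h4 := lemM (ne1 Nat.prime_two h2) (inv t h2) (mem_c1_symm ht.1) (by
      rw [h2]; exact (Nat.coprime_primes Nat.prime_two hn).2 y₅.symm) (mem_c1_symm h3)
    exact mem_c1_of_conj (iso y y₃ y₄ g (mem_c1.1 h4).symm)

theorem rank3 (h : Set.ncard {m : ℕ | ∃ x : G, x ∉ center G ∧ m = (C1[x]).index} = 3) :
    ∃ n, 2 ≤ n ∧ IsoPSL2 G (2 ^ n) := by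
  by_cases hF : ∀ x y : G, x ≠ 1 → y ≠ 1 → C1[x] ≤ C1[y] → C1[x] = C1[y]
  · obtain ⟨t, ht⟩ := exists_prime_orderOf_dvd_card' (G := G) 2 (two_dvd_card_of_simple hG)
    exact psl2_of_sc hG (sc_of_free ht hF) (ht ▸ orderOf_dvd_natCard _ (self_mem_c1 t))
  push Not at hF
  obtain ⟨x, y, x₁, y₁, h1, h2⟩ := hF
  obtain ⟨l, m, n, -, -, -, e⟩ := Set.ncard_eq_three.1 h
  have hT : ∀ x : G, x ≠ 1 → (C1[x]).index = l ∨ (C1[x]).index = m ∨ (C1[x]).index = n :=
    fun x hx => by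
      have : (C1[x]).index ∈ ({l, m, n} : Set ℕ) := e ▸ ⟨x, (not_mem_center_iff hG).2 hx, rfl⟩
      simpa using this
  have h3 : (C1[x]).index ≠ (C1[y]).index := fun e => h2 (eq_of_le_of_index h1 e)
  obtain ⟨c, hc⟩ : ∃ c, ∀ z : G, z ≠ 1 → (C1[z]).index = (C1[x]).index ∨
      (C1[z]).index = (C1[y]).index ∨ (C1[z]).index = c := by
    rcases hT x x₁ with e1 | e1 | e1 <;> rcases hT y y₁ with e2 | e2 | e2 <;> rw [e1, e2] at h3 ⊢
    · exact absurd rfl h3
    · exact ⟨n, fun z hz => by have := hT z hz; tauto⟩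
    · exact ⟨m, fun z hz => by have := hT z hz; tauto⟩
    · exact ⟨n, fun z hz => by have := hT z hz; tauto⟩
    · exact absurd rfl h3
    · exact ⟨l, fun z hz => by have := hT z hz; tauto⟩
    · exact ⟨m, fun z hz => by have := hT z hz; tauto⟩
    · exact ⟨l, fun z hz => by have := hT z hz; tauto⟩
    · exact absurd rfl h3
  exact rank3_of_lt hG hc (index_dvd_of_le h1) h3 y₁ rfl

end Cfsg.Lib.Ito
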