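import Cfsg.Agent.Lib.Ito.Basic
import Cfsg.Agent.Lib.FT.GW.L2Tor

/-!
# Centralizer orders in `SL₂(2ⁿ)`
-/

set_option autoImplicit false

namespace Cfsg.Lib.Ito
open Subgroup Cfsg Cfsg.Lib Cfsg.Lib.FT Cfsg.Lib.GW Cfsg.Lib.GW.L2 Matrix
open scoped MatrixGroups

variable {F : Type*} [Field F]

theorem comm_iff {A B : Matrix (Fin 2) (Fin 2) F} (hA : ∀ c : F, A ≠ c • (1 : Matrix (Fin 2) (Fin 2) F)) :
    B * A = A * B ↔ ∃ a b : F, B = a • (1 : Matrix (Fin 2) (Fin 2) F) + b • A := by
  constructor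
  · intro h
    have e1 := congrFun (congrFun h 0) 0
    have e2 := congrFun (congrFun h 0) 1
    have e3 := congrFun (congrFun h 1) 0
    simp only [mul_apply, Fin.sum_univ_two] at e1 e2 e3
    by_cases h1 : A 0 1 = 0
    · by_cases h2 : A 1 0 = 0
      · have h3 : A 0 0 - A 1 1 ≠ 0 := fun e => hA (A 0 0) (m_ext (by simp) (by simp [h1])
          (by simp [h2]) (by simp [sub_eq_zero.1 e]))
        refine ⟨B 0 0 - (B 0 0 - B 1 1) / (A 0 0 - A 1 1) * A 0 0,
          (B 0 0 - B 1 1) / (A 0 0 - A 1 1), m_ext (by simp) ?_ ?_ ?_⟩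
        · simp only [h1, mul_zero, zero_mul, add_zero, zero_add] at e2
          simp only [Matrix.add_apply, Matrix.smul_apply, h1, ne_eq, zero_ne_one, not_false_eq_true, one_apply_ne,
            smul_eq_mul, mul_zero, add_zero]
          apply mul_left_cancel₀ h3
          linear_combination -e2
        · simp only [h2, mul_zero, zero_mul, add_zero, zero_add] at e3
          simp only [Matrix.add_apply, Matrix.smul_apply, h2, ne_eq, one_ne_zero, not_false_eq_true, one_apply_ne,
            smul_eq_mul, mul_zero, add_zero]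
          apply mul_left_cancel₀ h3
          linear_combination e3
        · simp only [Matrix.add_apply, Matrix.smul_apply, one_apply_eq, smul_eq_mul, mul_one]
          field_simp
          ring
      · refine ⟨B 0 0 - B 1 0 / A 1 0 * A 0 0, B 1 0 / A 1 0, m_ext (by simp) ?_ ?_ ?_⟩
        · simp only [Matrix.add_apply, Matrix.smul_apply, ne_eq, zero_ne_one, not_false_eq_true, one_apply_ne,
            smul_eq_mul, mul_zero, zero_add]
          field_simp
          linear_combination e1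
        · simp only [Matrix.add_apply, Matrix.smul_apply, ne_eq, one_ne_zero, not_false_eq_true, one_apply_ne,
            smul_eq_mul, mul_zero, zero_add]
          field_simp
        · simp only [Matrix.add_apply, Matrix.smul_apply, one_apply_eq, smul_eq_mul, mul_one]
          field_simp
          linear_combination e3
    · refine ⟨B 0 0 - B 0 1 / A 0 1 * A 0 0, B 0 1 / A 0 1, m_ext (by simp) ?_ ?_ ?_⟩
      · simp only [Matrix.add_apply, Matrix.smul_apply, ne_eq, zero_ne_one, not_false_eq_true, one_apply_ne,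
          smul_eq_mul, mul_zero, zero_add]
        field_simp
      · simp only [Matrix.add_apply, Matrix.smul_apply, ne_eq, one_ne_zero, not_false_eq_true, one_apply_ne,
          smul_eq_mul, mul_zero, zero_add]
        field_simp
        linear_combination -e1
      · simp only [Matrix.add_apply, Matrix.smul_apply, one_apply_eq, smul_eq_mul, mul_one]
        field_simp
        linear_combination -e2
  · rintro ⟨a, b, rfl⟩
    simp [add_mul, mul_add]

theorem coord_inj' {A : Matrix (Fin 2) (Fin 2) F}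
    (hA : ∀ c : F, A ≠ c • (1 : Matrix (Fin 2) (Fin 2) F)) {a b a' b' : F}
    (h : a • (1 : Matrix (Fin 2) (Fin 2) F) + b • A = a' • 1 + b' • A) : a = a' ∧ b = b' := by
  have hb : b = b' := by
    by_contra hb
    refine hA ((b - b')⁻¹ * (a' - a)) ?_
    rw [mul_smul, eq_inv_smul_iff₀ (sub_ne_zero.2 hb), sub_smul, sub_smul]
    exact sub_eq_sub_iff_add_eq_add.2 (by rw [add_comm, h])
  subst hb
  have h1 : a • (1 : Matrix (Fin 2) (Fin 2) F) = a' • 1 := add_right_cancel h
  exact ⟨by simpa using congrFun (congrFun h1 0) 0, rfl⟩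

theorem det_coord' (A : Matrix (Fin 2) (Fin 2) F) (a b : F) :
    det (a • (1 : Matrix (Fin 2) (Fin 2) F) + b • A) = a ^ 2 + trace A * a * b + det A * b ^ 2 := by
  simp [det_fin_two, trace_fin_two]; ring

theorem card_c1_sl {A : SL(2, F)}
    (hA : ∀ c : F, (A : Matrix (Fin 2) (Fin 2) F) ≠ c • (1 : Matrix (Fin 2) (Fin 2) F)) :
    Nat.card C1[A] = Nat.card {x : F × F //
      x.1 ^ 2 + trace (A : Matrix (Fin 2) (Fin 2) F) * x.1 * x.2 + x.2 ^ 2 = 1} := by
  refine (Nat.card_congr (Equiv.ofBijective (fun x => ⟨⟨x.1.1 • 1 + x.1.2 • A.1, by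
    rw [det_coord', A.2, one_mul]; exact x.2⟩, mem_c1.2 (Subtype.ext
      ((comm_iff hA).2 ⟨_, _, rfl⟩))⟩) ⟨fun x y e => ?_, fun B => ?_⟩)).symm
  · obtain ⟨h1, h2⟩ := coord_inj' hA (congrArg (fun z => z.1.1) e)
    exact Subtype.ext (Prod.ext h1 h2)
  · have hB : B.1 * A = A * B.1 := mem_c1.1 B.2
    obtain ⟨a, b, e⟩ := (comm_iff hA (B := B.1.1)).1 (congrArg Subtype.val hB)
    refine ⟨⟨(a, b), ?_⟩, Subtype.ext (Subtype.ext e.symm)⟩
    have := B.1.2
    rw [show B.1.1 = _ from e, det_coord', A.2, one_mul] at this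
    exact this

/-- number of roots of `X² + τ X + 1` -/
noncomputable def nroots (τ : F) : ℕ := Nat.card {x : F // x ^ 2 + τ * x + 1 = 0}

theorem card_conic_zero [Finite F] (τ : F) :
    Nat.card {x : F × F // x.1 ^ 2 + τ * x.1 * x.2 + x.2 ^ 2 = 0} =
      1 + nroots τ * (Nat.card F - 1) := by
  let f : Option ({x : F // x ^ 2 + τ * x + 1 = 0} × Fˣ) →
      {x : F × F // x.1 ^ 2 + τ * x.1 * x.2 + x.2 ^ 2 = 0} := fun o =>
    match o with
    | none => ⟨(0, 0), by simp⟩
    | some z => ⟨(z.1.1 * z.2, z.2), by linear_combination (z.2 : F) ^ 2 * z.1.2⟩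
  have hf : Function.Bijective f := by
    constructor
    · rintro (_ | ⟨x, u⟩) (_ | ⟨y, v⟩) e
      · rfl
      · exact absurd (congrArg (fun z => z.1.2) e).symm v.ne_zero
      · exact absurd (congrArg (fun z => z.1.2) e) u.ne_zero
      · obtain rfl : u = v := Units.ext (congrArg (fun z => z.1.2) e)
        obtain rfl : x = y := Subtype.ext (mul_right_cancel₀ u.ne_zero (congrArg (fun z => z.1.1) e))
        rfl
    · rintro ⟨⟨a, b⟩, h⟩
      by_cases hb : b = 0
      · subst hb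
        obtain rfl : a = 0 := by simpa using h
        exact ⟨none, rfl⟩
      · refine ⟨some (⟨a / b, ?_⟩, Units.mk0 b hb), Subtype.ext (Prod.ext (by simp [f, hb]) rfl)⟩
        field_simp
        linear_combination h
  rw [← Nat.card_congr (Equiv.ofBijective f hf), Finite.card_option, Nat.card_prod, Nat.card_units,
    add_comm, nroots]

theorem card_conic_even [Finite F] (h2 : (2 : F) = 0) (τ : F) :
    Nat.card {x : F × F // x.1 ^ 2 + τ * x.1 * x.2 + x.2 ^ 2 = 1} + nroots τ = Nat.card F + 1 := by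
  classical
  obtain ⟨Q, hQ⟩ : ∃ Q : F × F → F, Q = fun x => x.1 ^ 2 + τ * x.1 * x.2 + x.2 ^ 2 := ⟨_, rfl⟩
  have sq : Function.Injective fun x : F => x ^ 2 := fun x y e => by
    have e' : x ^ 2 = y ^ 2 := e
    have : (x - y) ^ 2 = 0 := by linear_combination e' + (y ^ 2 - x * y) * h2
    exact sub_eq_zero.1 (pow_eq_zero_iff two_ne_zero |>.1 this)
  let f : {x // Q x = 1} × Fˣ → {x // ¬ Q x = 0} := fun z =>
    ⟨(z.2 * z.1.1.1, z.2 * z.1.1.2), fun e => pow_ne_zero 2 z.2.ne_zero (by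
      obtain ⟨⟨x, this⟩, u⟩ := z
      simp only at e ⊢
      rw [hQ] at this e
      linear_combination e - (u : F) ^ 2 * this)⟩
  have hf : Function.Bijective f := by
    constructor
    · rintro ⟨⟨⟨a, b⟩, h⟩, u⟩ ⟨⟨⟨c, d⟩, h'⟩, v⟩ e
      have e1 : (u : F) * a = v * c := congrArg (fun z => z.1.1) e
      have e2 : (u : F) * b = v * d := congrArg (fun z => z.1.2) e
      rw [hQ] at h h'
      obtain rfl : u = v := Units.ext (sq (by
        simp only at h h' ⊢
        linear_combination -(u : F) ^ 2 * h + (v : F) ^ 2 * h' + (u * a + v * c + τ * (u * b)) * e1 +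
          (u * b + v * d + τ * (v * c)) * e2))
      obtain rfl := mul_left_cancel₀ u.ne_zero e1
      obtain rfl := mul_left_cancel₀ u.ne_zero e2
      rfl
    · rintro ⟨⟨a, b⟩, h⟩
      obtain ⟨s, hs⟩ := (Finite.injective_iff_surjective.1 sq) (Q (a, b))
      have s0 : s ≠ 0 := by rintro rfl; exact h (by simpa using hs.symm)
      refine ⟨(⟨(a / s, b / s), ?_⟩, Units.mk0 s s0), Subtype.ext (Prod.ext ?_ ?_)⟩
      · rw [hQ] at hs ⊢
        simp only at hs ⊢
        field_simp
        linear_combination -hs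
      · simp [f, mul_div_cancel₀, s0]
      · simp [f, mul_div_cancel₀, s0]
  have h1 := Nat.card_congr (Equiv.ofBijective f hf)
  have h3 := Nat.card_congr (Equiv.sumCompl fun x => Q x = 0)
  rw [Nat.card_sum, ← h1, Nat.card_prod, Nat.card_prod, Nat.card_units, hQ, card_conic_zero] at h3
  obtain ⟨q, hq⟩ : ∃ q, Nat.card F = q + 2 := Nat.exists_eq_add_of_le' Finite.one_lt_card
  rw [hq] at h3 ⊢
  simp only [show q + 2 - 1 = q + 1 from rfl] at h3
  apply Nat.eq_of_mul_eq_mul_right (show 0 < q + 1 by omega)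
  linarith

theorem nroots_le (τ : F) : nroots τ ≤ 2 := by
  by_cases h : ∃ x : F, x ^ 2 + τ * x + 1 = 0
  · obtain ⟨u, hu⟩ := h
    have : ({x : F | x ^ 2 + τ * x + 1 = 0} : Set F) ⊆ {u, -τ - u} := fun x hx => by
      have hx' : x ^ 2 + τ * x + 1 = 0 := hx
      have : (x - u) * (x - (-τ - u)) = 0 := by linear_combination hx' - hu
      simpa [sub_eq_zero] using this
    exact (Set.ncard_le_ncard this (Set.toFinite _)).trans (Set.ncard_insert_le _ _ |>.trans (by simp))
  · have : IsEmpty {x : F // x ^ 2 + τ * x + 1 = 0} := ⟨fun x => h ⟨x.1, x.2⟩⟩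
    simp [nroots]

theorem nroots_zero (h2 : (2 : F) = 0) : nroots (0 : F) = 1 := by
  have : ({x : F | x ^ 2 + 0 * x + 1 = 0} : Set F) = {1} := by
    ext x
    simp only [Set.mem_setOf_eq, Set.mem_singleton_iff]
    constructor
    · intro h
      have : (x - 1) ^ 2 = 0 := by linear_combination h - x * h2
      exact sub_eq_zero.1 (pow_eq_zero_iff two_ne_zero |>.1 this)
    · rintro rfl; linear_combination h2
  exact (congrArg Set.ncard this).trans (Set.ncard_singleton _)

theorem exists_nroots_two (hF : 4 ≤ Nat.card F) : ∃ τ : F, nroots τ = 2 := by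
  obtain ⟨u, u0, u1⟩ := exists_ne_zero_sq_ne_one hF
  refine ⟨-(u + u⁻¹), ?_⟩
  have : ({x : F | x ^ 2 + -(u + u⁻¹) * x + 1 = 0} : Set F) = {u, u⁻¹} := by
    ext x
    have : x ^ 2 + -(u + u⁻¹) * x + 1 = (x - u) * (x - u⁻¹) := by field_simp; ring
    rw [Set.mem_setOf_eq, this]
    simp [sub_eq_zero]
  exact (congrArg Set.ncard this).trans (Set.ncard_pair fun e => u1 (by
    rw [pow_two]; nth_rewrite 2 [e]; exact mul_inv_cancel₀ u0))

theorem exists_nroots_zero [Finite F] : ∃ τ : F, nroots τ = 0 := by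
  have : ¬ Function.Surjective fun u : Fˣ => -((u : F) + (u : F)⁻¹) := fun h => by
    have := Nat.card_le_card_of_surjective _ h
    rw [Nat.card_units] at this
    have := Nat.card_pos (α := F)
    omega
  obtain ⟨τ, hτ⟩ := not_forall.1 this
  have : IsEmpty {x : F // x ^ 2 + τ * x + 1 = 0} := ⟨fun ⟨x, hx⟩ => hτ (by
    have x0 : x ≠ 0 := by rintro rfl; simp at hx
    refine ⟨Units.mk0 x x0, ?_⟩
    simp only [Units.val_mk0]
    field_simp
    linear_combination -hx)⟩
  exact ⟨τ, by simp [nroots]⟩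

theorem sl_not_scalar (h2 : (2 : F) = 0) {A : SL(2, F)} (hA : A ≠ 1) (c : F) :
    (A : Matrix (Fin 2) (Fin 2) F) ≠ c • (1 : Matrix (Fin 2) (Fin 2) F) := fun e => hA (by
  have h1 := A.2
  rw [show A.1 = _ from e, det_smul', det_one, mul_one] at h1
  have : (c - 1) ^ 2 = 0 := by linear_combination h1 + (1 - c) * h2
  obtain rfl := sub_eq_zero.1 (pow_eq_zero_iff two_ne_zero |>.1 this)
  exact Subtype.ext (by simpa using e))

theorem center_sl_even (h2 : (2 : F) = 0) : center SL(2, F) = ⊥ := by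
  refine eq_bot_iff.2 fun A hA => mem_bot.2 (by_contra fun h => ?_)
  obtain ⟨r, -, hr⟩ := Matrix.SpecialLinearGroup.mem_center_iff.1 hA
  exact sl_not_scalar h2 h r (by rw [← hr, scalar_apply, smul_one_eq_diagonal])

theorem ncard_sl_even [Finite F] (h2 : (2 : F) = 0) (hF : 4 ≤ Nat.card F) :
    Set.ncard {m : ℕ | ∃ x : SL(2, F), x ∉ center SL(2, F) ∧ m = (C1[x]).index} = 3 := by
  have key : ∀ A : SL(2, F), A ≠ 1 →
      Nat.card C1[A] + nroots (trace (A : Matrix (Fin 2) (Fin 2) F)) = Nat.card F + 1 :=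
    fun A hA => by rw [card_c1_sl (sl_not_scalar h2 hA), card_conic_even h2]
  have ex : ∀ τ : F, ∃ A : SL(2, F), A ≠ 1 ∧ trace (A : Matrix (Fin 2) (Fin 2) F) = τ := fun τ =>
    ⟨⟨!![0, 1; -1, τ], by simp [det_fin_two]⟩, fun e => by
      simpa using congrArg (fun z : SL(2, F) => z.1 0 0) e, by simp [trace_fin_two]⟩
  have iff : ∀ A B : SL(2, F), A ≠ 1 → B ≠ 1 → ((C1[A]).index = (C1[B]).index ↔
      nroots (trace (A : Matrix (Fin 2) (Fin 2) F)) = nroots (trace (B : Matrix (Fin 2) (Fin 2) F))) := by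
    intro A B hA hB
    have a1 := key A hA
    have a2 := key B hB
    have a3 := (C1[A]).index_mul_card.trans (C1[B]).index_mul_card.symm
    constructor
    · intro e
      rw [e] at a3
      have := Nat.eq_of_mul_eq_mul_left (Nat.pos_of_ne_zero index_ne_zero_of_finite) a3
      omega
    · intro e
      rw [show Nat.card C1[A] = Nat.card C1[B] by omega] at a3
      exact Nat.eq_of_mul_eq_mul_right Nat.card_pos a3
  obtain ⟨τ₀, t₀⟩ := exists_nroots_zero (F := F)
  obtain ⟨τ₂, t₂⟩ := exists_nroots_two hF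
  obtain ⟨A₀, a₀, rfl⟩ := ex τ₀
  obtain ⟨A₁, a₁, b₁⟩ := ex 0
  obtain ⟨A₂, a₂, rfl⟩ := ex τ₂
  have t₁ := nroots_zero h2
  rw [← b₁] at t₁
  refine Set.ncard_eq_three.2 ⟨(C1[A₀]).index, (C1[A₁]).index, (C1[A₂]).index,
    by rw [Ne, iff _ _ a₀ a₁]; omega, by rw [Ne, iff _ _ a₀ a₂]; omega,
    by rw [Ne, iff _ _ a₁ a₂]; omega, ?_⟩
  ext m
  simp only [center_sl_even h2, mem_bot, Set.mem_setOf_eq, Set.mem_insert_iff, Set.mem_singleton_iff]
  constructor
  · rintro ⟨A, hA, rfl⟩
    rw [iff _ _ hA a₀, iff _ _ hA a₁, iff _ _ hA a₂]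
    have := nroots_le (trace (A : Matrix (Fin 2) (Fin 2) F))
    omega
  · rintro (rfl | rfl | rfl)
    exacts [⟨_, a₀, rfl⟩, ⟨_, a₁, rfl⟩, ⟨_, a₂, rfl⟩]

theorem index_c1_equiv {G H : Type*} [Group G] [Group H] (e : G ≃* H) (x : G) :
    (C1[e x]).index = (C1[x]).index ∧ (e x ∈ center H → x ∈ center G) := by
  refine ⟨?_, fun h => mem_center_iff.2 fun g => e.injective (by
    rw [map_mul, map_mul, mem_center_iff.1 h])⟩
  rw [← index_map_equiv (C1[x]) e]
  congr 1
  ext y
  refine Iff.trans ?_ (mem_map_equiv (f := e)).symm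
  rw [mem_c1, mem_c1, ← e.injective.eq_iff, map_mul, map_mul, e.apply_symm_apply]

theorem ncard_congr {G H : Type*} [Group G] [Group H] (e : G ≃* H) :
    {m : ℕ | ∃ x : G, x ∉ center G ∧ m = (C1[x]).index} =
      {m : ℕ | ∃ x : H, x ∉ center H ∧ m = (C1[x]).index} := by
  ext m
  exact ⟨fun ⟨x, h, h'⟩ => ⟨e x, fun h1 => h ((index_c1_equiv e x).2 h1),
      h'.trans (index_c1_equiv e x).1.symm⟩,
    fun ⟨x, h, h'⟩ => ⟨e.symm x, fun h1 => h ((index_c1_equiv e.symm x).2 h1),
      h'.trans (index_c1_equiv e.symm x).1.symm⟩⟩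

end Cfsg.Lib.Ito
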